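import Cfsg.Agent.FischerThm.Uni.Section

/-!
# No unitary neighbourhood of dimension five with few common partners
-/

set_option autoImplicit false

universe u

namespace CfsgLib.FischerThm.Uni

open Cfsg Matrix CfsgLib.RepBounds.Unit CfsgLib.U62 CfsgLib.FischerTypes

variable {G : Type u} [Group G] {D : Set G} {F : Type} [Field F] [Fintype F] (C : ConjField F) (hC : C.q = 2)

include hC in
/-- Orthogonal isotropic vectors of the three-dimensional space are proportional. -/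
theorem prop_of_orth {w w' : I3 → F} (hw : herm C w w = 0) (hw0 : w ≠ 0) (hw' : herm C w' w' = 0)
    (hw0' : w' ≠ 0) (h : herm C w w' = 0) : ∃ a : F, a ≠ 0 ∧ w' = a • w := by
  obtain ⟨t, -, ht⟩ := exists_to_vE C hw hw0
  set v := app C t w' with hv
  have hve : herm C v (vE C (Fin 1)) = 0 := by rw [hv, ← ht, herm_app, ← conj_herm, h, map_zero]
  have hvv : herm C v v = 0 := by rw [hv, herm_app, hw']
  have hd := decomp_three C v
  rw [hve, zero_smul, add_zero] at hd
  have hr : herm C v rr = 0 := by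
    by_contra hr
    rw [hd] at hvv
    simp only [herm_add_left, herm_add_right, herm_smul_left, herm_smul_right, herm_vE_vE, herm_rr,
      show herm C (vE C (Fin 1)) (rr : I3 → F) = 0 from herm_vE_inW C _,
      show herm C (rr : I3 → F) (vE C (Fin 1)) = 0 from herm_inW_vE C _,
      mul_zero, mul_one, add_zero, zero_add] at hvv
    simp [hr] at hvv
  rw [hr, zero_smul, add_zero] at hd
  refine ⟨herm C v (vF C (Fin 1)), fun e => hw0' ?_, ?_⟩
  · rw [e, zero_smul] at hd
    rw [← app_inv_app C t w', ← hv, hd]; simp [app]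
  · rw [← app_inv_app C t w', ← hv]
    conv_lhs => rw [hd]
    rw [app_smul, ← ht, app_inv_app]

include hC in
/-- A vector orthogonal to a point and to a unit vector beside it is a multiple of the point. -/
theorem prop_of_orth_pair {w r p : I3 → F} (hw : herm C w w = 0) (hw0 : w ≠ 0) (hr : herm C r r = 1)
    (hrw : herm C r w = 0) (hpw : herm C p w = 0) (hpr : herm C p r = 0) : ∃ a : F, p = a • w := by
  obtain ⟨t, -, ht⟩ := exists_to_vE C hw hw0
  have hd := decomp_three C (app C t p)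
  have hd' := decomp_three C (app C t r)
  rw [show herm C (app C t p) (vE C (Fin 1)) = 0 by rw [← ht, herm_app, hpw], zero_smul, add_zero] at hd
  rw [show herm C (app C t r) (vE C (Fin 1)) = 0 by rw [← ht, herm_app, hrw], zero_smul, add_zero] at hd'
  have hrr : herm C (app C t r) rr ≠ 0 := by
    intro e
    rw [e, zero_smul, add_zero] at hd'
    have : herm C (app C t r) (app C t r) = 1 := by rw [herm_app, hr]
    rw [hd', herm_smul_left, herm_smul_right, herm_vE_vE, mul_zero, mul_zero] at this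
    exact zero_ne_one this
  have h0 : herm C (app C t p) rr = 0 := by
    have : herm C (app C t p) (app C t r) = 0 := by rw [herm_app, hpr]
    rw [hd, hd'] at this
    simp only [herm_add_left, herm_add_right, herm_smul_left, herm_smul_right, herm_vE_vE, herm_rr,
      show herm C (vE C (Fin 1)) (rr : I3 → F) = 0 from herm_vE_inW C _,
      show herm C (rr : I3 → F) (vE C (Fin 1)) = 0 from herm_inW_vE C _,
      mul_zero, mul_one, add_zero, zero_add] at this
    exact (mul_eq_zero.1 this).resolve_left ((map_ne_zero C.σ).2 hrr)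
  rw [h0, zero_smul, add_zero] at hd
  refine ⟨herm C (app C t p) (vF C (Fin 1)), ?_⟩
  conv_lhs => rw [← app_inv_app C t p, hd, app_smul, ← ht, app_inv_app]

include hC in
/-- A point off `x` orthogonal to a unit vector beside `x`. -/
theorem exists_point {x q : I3 → F} (hx : herm C x x = 0) (hx0 : x ≠ 0) (hq : herm C q q = 1)
    (hqx : herm C q x = 0) : ∃ y, herm C y y = 0 ∧ herm C y q = 0 ∧ herm C y x = 1 := by
  obtain ⟨t, -, ht⟩ := exists_to_vE C hx hx0
  have hd := decomp_three C (app C t q)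
  rw [show herm C (app C t q) (vE C (Fin 1)) = 0 by rw [← ht, herm_app, hqx], zero_smul, add_zero] at hd
  set γ := herm C (app C t q) (vF C (Fin 1))
  set δ := herm C (app C t q) rr
  have h1e : herm C (vE C (Fin 1)) (rr : I3 → F) = 0 := herm_vE_inW C _
  have h1f : herm C (vF C (Fin 1)) (rr : I3 → F) = 0 := herm_vF_inW C _
  have hre : herm C (rr : I3 → F) (vE C (Fin 1)) = 0 := herm_inW_vE C _
  have hrf : herm C (rr : I3 → F) (vF C (Fin 1)) = 0 := herm_inW_vF C _
  have hδ : δ * C.σ δ = 1 := by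
    have : herm C (app C t q) (app C t q) = 1 := by rw [herm_app, hq]
    rw [hd] at this
    rw [mul_comm]
    simpa [herm_add_left, herm_add_right, herm_smul_left, herm_smul_right, herm_vE_vE, h1e, hre, herm_rr]
      using this
  set τ := -(C.σ γ * δ) with hτ
  set y := (-(τ * C.σ τ * tA C)) • vE C (Fin 1) + vF C (Fin 1) + τ • rr with hy
  have hyy : herm C y y = 0 := by
    simp only [hy, herm_add_left, herm_add_right, herm_smul_left, herm_smul_right, herm_vE_vE, herm_vE_vF,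
      herm_vF_vE, herm_vF_vF, herm_rr, h1e, h1f, hre, hrf, map_neg, map_mul, C.invol]
    linear_combination (-(τ * C.σ τ)) * tA_spec C
  refine ⟨app C t⁻¹ y, by rw [herm_app, hyy], ?_, ?_⟩
  · rw [herm_app_left, hd]
    simp only [hy, herm_add_left, herm_add_right, herm_smul_left, herm_smul_right, herm_vE_vE, herm_vF_vE,
      herm_rr, h1e, h1f, hre]
    rw [hτ]
    linear_combination (-C.σ γ) * hδ
  · rw [herm_app_left, ht]
    simp [hy, herm_add_left, herm_neg_left, herm_smul_left, herm_vE_vE, herm_vF_vE, hre]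

/-- The common partners of `d` and `c` commuting with `a`. -/
abbrev nbr (D : Set G) (d c a : G) : Set G := (perp D d ∩ perp D c) ∩ perp D a

include hC in
theorem exists_normal {a : G} (K : Coord C D a I5) {d c : G} (hd : d ∈ perp D a) (hc : c ∈ perp D a)
    (hdc : ¬ Commute d c) : ∃ K' : Coord C D a I5, K'.Φ (vE C I3) = d ∧ K'.Φ (vF C I3) = c := by
  obtain ⟨u, hu, hu0, rfl⟩ := K.surj d hd
  obtain ⟨w, hw, hw0, rfl⟩ := K.surj c hc
  obtain ⟨g, b, hb, hgu, hgw⟩ := exists_map_hyp C hC hu hw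
    (fun h => hdc ((K.comm_iff u w hu hu0 hw hw0).2 h))
  refine ⟨K.twist C g⁻¹, ?_, ?_⟩
  · show K.Φ (app C g⁻¹ (vE C I3)) = K.Φ u
    rw [← hgu, app_inv_app]
  · show K.Φ (app C g⁻¹ (vF C I3)) = K.Φ w
    refine (K.eq_iff _ _ (by rw [herm_app, herm_vF_vF]) (app_ne_zero C _ ?_) hw hw0).2 ⟨b, hb, ?_⟩
    · intro e
      have := herm_vE_vF C (κ := I3)
      rw [e, herm_zero_right] at this
      exact zero_ne_one this
    · rw [← app_smul, ← hgw, app_inv_app]

include hC in
theorem nbr_eq {a : G} (K : Coord C D a I5) {d c : G} (hd : K.Φ (vE C I3) = d) (hc : K.Φ (vF C I3) = c) :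
    nbr D d c a = (fun w => K.Φ (inW w)) '' {w : I3 → F | herm C w w = 0 ∧ w ≠ 0} := by
  have hE0 : vE C I3 ≠ 0 := Forms4.vE_ne_zero C
  have hF0 : vF C I3 ≠ 0 := fun e => by
    have := herm_vE_vF C (κ := I3)
    rw [e, herm_zero_right] at this
    exact zero_ne_one this
  ext y
  constructor
  · rintro ⟨⟨hyd, hyc⟩, hya⟩
    obtain ⟨v, hv, hv0, rfl⟩ := K.surj y hya
    have h1 := (K.comm_iff _ v (herm_vE_vE C) hE0 hv hv0).1 (hd ▸ hyd.2.2)
    have h2 := (K.comm_iff _ v (herm_vF_vF C) hF0 hv hv0).1 (hc ▸ hyc.2.2)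
    have he := eq_inW_of_orth C (w := v) (by rw [← conj_herm, h1, map_zero]) (by rw [← conj_herm, h2, map_zero])
    exact ⟨v ∘ Sum.inr, ⟨by rw [← herm_inW, ← he, hv], fun e => hv0 (by rw [he, e, inW_zero])⟩,
      congrArg K.Φ he.symm⟩
  · rintro ⟨w, ⟨hw, hw0⟩, rfl⟩
    have hz : herm C (inW w) (inW w : I5 → F) = 0 := by rw [herm_inW, hw]
    have hm := K.mem _ hz (inW_ne_zero hw0)
    refine ⟨⟨⟨hm.1, fun e => ?_, ?_⟩, ⟨hm.1, fun e => ?_, ?_⟩⟩, hm⟩
    · rw [← hd] at e
      obtain ⟨b, hb, he⟩ := (K.eq_iff _ _ hz (inW_ne_zero hw0) (herm_vE_vE C) hE0).1 e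
      have := congrArg (fun z => herm C z (vF C I3)) he
      simp [herm_vE_vF, herm_smul_left, herm_inW_vF] at this
    · rw [← hd, K.comm_iff _ _ (herm_vE_vE C) hE0 hz (inW_ne_zero hw0), herm_vE_inW]
    · rw [← hc] at e
      obtain ⟨b, hb, he⟩ := (K.eq_iff _ _ hz (inW_ne_zero hw0) (herm_vF_vF C) hF0).1 e
      have := congrArg (fun z => herm C z (vE C I3)) he
      simp [herm_vF_vE, herm_smul_left, herm_inW_vE] at this
    · rw [← hc, K.comm_iff _ _ (herm_vF_vF C) hF0 hz (inW_ne_zero hw0), herm_vF_inW]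

theorem third_mem_inter (hD : IsThreeTranspositionGroup D) {d x y : G} (hx : x ∈ perp D d) (hy : y ∈ perp D d) :
    x * y * x ∈ perp D d := by
  have := conj_mem_perp hD hx.2.2.symm hy
  rwa [FischerTypes.inv_eq hD.1 hx.1] at this

theorem conj_perp_fix {z x : G} (hD : IsThreeTranspositionClass D) :
    (fun y => z * y * z⁻¹) '' perp D x = perp D (z * x * z⁻¹) :=
  FischerTransitivity.conj_commSet hD x z

variable [Finite G]

include hC in
theorem nbr_props {a : G} (K : Coord C D a I5) {d c : G} (hd : d ∈ perp D a) (hc : c ∈ perp D a)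
    (hdc : ¬ Commute d c) :
    (nbr D d c a).ncard = 9 ∧ ∀ x ∈ nbr D d c a, ∀ y ∈ nbr D d c a, x ≠ y → ¬ Commute x y := by
  obtain ⟨K', hKd, hKc⟩ := exists_normal C hC K hd hc hdc
  have he := nbr_eq C hC K' hKd hKc
  refine ⟨?_, ?_⟩
  · rw [he]
    have h := three_mul_ncard_all C hC (fun w : I3 → F => K'.Φ (inW w)) fun v w hv hv0 hw hw0 => by
      rw [K'.eq_iff _ _ (by rw [herm_inW, hv]) (inW_ne_zero hv0) (by rw [herm_inW, hw]) (inW_ne_zero hw0)]
      constructor
      · rintro ⟨b, hb, e⟩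
        exact ⟨b, hb, funext fun k => by simpa [inW] using congrFun e (Sum.inr k)⟩
      · rintro ⟨b, hb, e⟩; exact ⟨b, hb, by rw [e, inW_smul]⟩
    rw [card_iso_three C hC] at h
    omega
  · intro x hx y hy hne hcom
    rw [he] at hx hy
    obtain ⟨v, ⟨hv, hv0⟩, rfl⟩ := hx
    obtain ⟨w, ⟨hw, hw0⟩, rfl⟩ := hy
    rw [K'.comm_iff _ _ (by rw [herm_inW, hv]) (inW_ne_zero hv0) (by rw [herm_inW, hw]) (inW_ne_zero hw0),
      herm_inW] at hcom
    obtain ⟨b, hb, e⟩ := prop_of_orth C hC hv hv0 hw hw0 hcom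
    exact hne ((K'.eq_iff _ _ (by rw [herm_inW, hv]) (inW_ne_zero hv0) (by rw [herm_inW, hw])
      (inW_ne_zero hw0)).2 ⟨b, hb, by rw [e, inW_smul]⟩)

include hC in
/-- The number of common partners of `d, c, x, y` does not depend on the pair `x, y` beside `a`. -/
theorem const_pairs (hD : IsThreeTranspositionClass D) {a : G} (K : Coord C D a I5) {d c : G}
    (hd : d ∈ perp D a) (hc : c ∈ perp D a) (hdc : ¬ Commute d c) {x y x' y' : G} (hx : x ∈ nbr D d c a)
    (hy : y ∈ nbr D d c a) (hxy : x ≠ y) (hx' : x' ∈ nbr D d c a) (hy' : y' ∈ nbr D d c a) (hxy' : x' ≠ y') :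
    (nbr D d c x ∩ perp D y).ncard = (nbr D d c x' ∩ perp D y').ncard := by
  have hnc := (nbr_props C hC K hd hc hdc).2
  have hxy1 := hnc x hx y hy hxy
  have hxy2 := hnc x' hx' y' hy' hxy'
  obtain ⟨K', hKd, hKc⟩ := exists_normal C hC K hd hc hdc
  rw [nbr_eq C hC K' hKd hKc] at hx hy hx' hy'
  obtain ⟨u, ⟨hu, hu0⟩, rfl⟩ := hx
  obtain ⟨v, ⟨hv, hv0⟩, rfl⟩ := hy
  obtain ⟨u', ⟨hu', hu0'⟩, rfl⟩ := hx'
  obtain ⟨v', ⟨hv', hv0'⟩, rfl⟩ := hy'
  have hi : ∀ {w : I3 → F}, herm C w w = 0 → herm C (inW w : I5 → F) (inW w) = 0 := fun h => by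
    rw [herm_inW, h]
  rw [K'.comm_iff _ _ (hi hu) (inW_ne_zero hu0) (hi hv) (inW_ne_zero hv0), herm_inW] at hxy1
  rw [K'.comm_iff _ _ (hi hu') (inW_ne_zero hu0') (hi hv') (inW_ne_zero hv0'), herm_inW] at hxy2
  obtain ⟨g1, b, hb, h1u, h1v⟩ := exists_map_hyp C hC hu hv hxy1
  obtain ⟨g2, b', hb', h2u, h2v⟩ := exists_map_hyp C hC hu' hv' hxy2
  set g0 := g2⁻¹ * g1
  have hg0u : app C g0 u = u' := by rw [app_mul, h1u, ← h2u, app_inv_app]
  have hg0v : app C g0 v = (b * b'⁻¹) • v' := by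
    rw [app_mul, h1v, ← app_inv_app C g2 v', h2v, app_smul, app_smul, smul_smul, mul_assoc,
      inv_mul_cancel₀ hb', mul_one]
  obtain ⟨z, -, hzv⟩ := K'.move (RepBounds.Unit.blockHom C I3 g0)
  have hbW : ∀ w : I3 → F, app C (RepBounds.Unit.blockHom C I3 g0) (inW w) = inW (app C g0 w) := fun w => by
    rw [app_blockHom]; simp [inW]
  have hbP : ∀ p : I5 → F, p ∘ Sum.inr = 0 → app C (RepBounds.Unit.blockHom C I3 g0) p = p := fun p hp => by
    rw [app_blockHom, hp]
    funext i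
    rcases i with i | i
    · rfl
    · simpa [app] using (congrFun hp i).symm
  have hzd : z * d * z⁻¹ = d := by
    rw [← hKd, hzv _ (herm_vE_vE C) (Forms4.vE_ne_zero C), hbP _ (by funext i; simp [vE])]
  have hzc : z * c * z⁻¹ = c := by
    rw [← hKc, hzv _ (herm_vF_vF C) (fun e => by
      have := herm_vE_vF C (κ := I3)
      rw [e, herm_zero_right] at this
      exact zero_ne_one this), hbP _ (by funext i; simp [vF])]
  have hzx : z * K'.Φ (inW u) * z⁻¹ = K'.Φ (inW u') := by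
    rw [hzv _ (hi hu) (inW_ne_zero hu0), hbW, hg0u]
  have hzy : z * K'.Φ (inW v) * z⁻¹ = K'.Φ (inW v') := by
    rw [hzv _ (hi hv) (inW_ne_zero hv0), hbW, hg0v, eq_comm]
    have h0 : b * b'⁻¹ ≠ 0 := mul_ne_zero hb (inv_ne_zero hb')
    exact (K'.eq_iff _ _ (hi hv') (inW_ne_zero hv0') (hi (by rw [herm_smul_left, herm_smul_right, hv', mul_zero, mul_zero]))
      (inW_ne_zero (smul_ne_zero h0 hv0'))).2 ⟨_, h0, inW_smul _ _⟩
  have hinj : Function.Injective fun t : G => z * t * z⁻¹ := fun p q e => mul_left_cancel (mul_right_cancel e)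
  rw [← Set.ncard_image_of_injective _ hinj, Set.image_inter hinj, Set.image_inter hinj,
    Set.image_inter hinj, conj_perp_fix hD, conj_perp_fix hD, conj_perp_fix hD, conj_perp_fix hD,
    hzd, hzc, hzx, hzy]

include hC in
/-- Some pair beside `a` has one or nine common partners, and not all have nine. -/
theorem special_pair (hD : IsThreeTranspositionClass D) {d c : G} (Kd : Coord C D d I5) (hdc : ¬ Commute d c)
    (hK : ∀ e ∈ D, Nonempty (Coord C D e I5)) (hd : d ∈ D) (hc : c ∈ D) {a x : G}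
    (ha : a ∈ perp D d ∩ perp D c) (hx : x ∈ nbr D d c a) :
    (∃ y ∈ nbr D d c a, y ≠ x ∧ (nbr D d c x ∩ perp D y = {a} ∨ nbr D d c x ⊆ perp D y)) ∧
      ¬ ∀ y ∈ nbr D d c a, y ≠ x → nbr D d c x ⊆ perp D y := by
  have hG := Transpositions.isThreeTranspositionGroup_of_class hD
  haveI : Nontrivial I3 := ⟨⟨Sum.inl 0, Sum.inl 1, by simp⟩⟩
  have hsec : ∀ (K : Coord C D d I5) (b : G), b ∈ perp D d ∩ perp D c → ∃ h : suG C I5,
      (K.twist C h).Φ (vE C I3) = b ∧
        nbr D d c b = (fun w => (K.twist C h).Φ (inW w)) '' {w : I3 → F | herm C w w = 0 ∧ w ≠ 0} := by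
    intro K b hb
    obtain ⟨Kb⟩ := hK b hb.1.1
    obtain ⟨h9, hnc⟩ := nbr_props C hC Kb (d := d) (c := c) ⟨hd, (Ne.symm hb.1.2.1), hb.1.2.2.symm⟩
      ⟨hc, (Ne.symm hb.2.2.1), hb.2.2.2.symm⟩ hdc
    exact exists_section C hC hD K hb.1 (Set.toFinite _) (fun y hy => hy.1.1)
      (fun y hy => ⟨hy.2.2.1, hy.2.2.2⟩) h9 hnc
      (fun p hp q hq => ⟨⟨third_mem_inter hG hp.1.1 hq.1.1, third_mem_inter hG hp.1.2 hq.1.2⟩,
        third_mem_inter hG hp.2 hq.2⟩)
  obtain ⟨h1, hK1a, hN1⟩ := hsec Kd a ha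
  set K1 := Kd.twist C h1
  obtain ⟨g, hgx, hN2⟩ := hsec K1 x hx.1
  have hgdef : ∀ v, (K1.twist C g).Φ v = K1.Φ (app C g v) := fun v => rfl
  simp only [hgdef] at hgx hN2
  set E := vE C I3 with hE
  have hEE : herm C E E = 0 := herm_vE_vE C
  have hE0 : E ≠ 0 := Forms4.vE_ne_zero C
  have hi : ∀ {w : I3 → F}, herm C w w = 0 → herm C (inW w : I5 → F) (inW w) = 0 := fun h => by
    rw [herm_inW, h]
  have hgi : ∀ {w : I3 → F}, herm C w w = 0 → herm C (app C g (inW w)) (app C g (inW w)) = 0 := fun h => by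
    rw [herm_app, hi h]
  have hgn : ∀ {w : I3 → F}, w ≠ 0 → app C g (inW w) ≠ 0 := fun h => app_ne_zero C g (inW_ne_zero h)
  have hxN := hx
  rw [hN1] at hxN
  obtain ⟨x0, ⟨hx0, hx00⟩, hxe⟩ := hxN
  obtain ⟨σx, hσx, hgE⟩ := (K1.eq_iff _ _ (hi hx0) (inW_ne_zero hx00) (by rw [herm_app, hEE])
    (app_ne_zero C g hE0)).1 (hxe.trans hgx.symm)
  have haN : a ∈ nbr D d c x := ⟨ha, ha.1.1, (Ne.symm hx.2.2.1), hx.2.2.2.symm⟩
  rw [hN2] at haN
  obtain ⟨wa, ⟨hwa, hwa0⟩, hae⟩ := haN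
  obtain ⟨σa, hσa, hgwa⟩ := (K1.eq_iff _ _ (hgi hwa) (hgn hwa0) hEE hE0).1 (hae.trans hK1a.symm)
  -- a unit vector beside the point of `a`
  obtain ⟨h', -, hh'⟩ := exists_to_vE C hwa hwa0
  set rw' := app C h'⁻¹ rr with hrw
  have hr1 : herm C rw' rw' = 1 := by rw [hrw, herm_app, herm_rr]
  have hrwa : herm C rw' wa = 0 := by rw [hrw, herm_app_left, hh']; exact herm_inW_vE C _
  set q0 := app C g (inW rw') with hq0
  have hqE : herm C q0 E = 0 := by
    rw [hgwa, herm_smul_right, hq0, herm_app, herm_inW, hrwa, mul_zero]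
  have hqd := herm_left_I5 C q0 hqE
  set q1 := q0 ∘ Sum.inr
  have hq1 : herm C q1 q1 = 1 := by
    rw [← herm_coord C (herm C q0 (vF C I3)) (herm C q0 (vF C I3)), ← hqd, hq0, herm_app, herm_inW, hr1]
  have hqu : ∀ u : I3 → F, herm C q0 (inW u) = herm C q1 u := fun u => by
    conv_lhs => rw [hqd]
    simp [herm_add_left, herm_smul_left, herm_vE_inW, herm_inW]
  have hqx : herm C q1 x0 = 0 := by
    have h0 : herm C q0 (app C g E) = 0 := by rw [hq0, herm_app, herm_inW_vE]
    rw [hgE, herm_smul_right, hqu] at h0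
    exact (mul_eq_zero.1 h0).resolve_left ((map_ne_zero C.σ).2 hσx)
  -- the functional of a point `u`
  have hfun : ∀ (u w : I3 → F), herm C (app C g (inW w)) (inW u) = herm C w ((app C g⁻¹ (inW u)) ∘ Sum.inr) := by
    intro u w
    rw [← herm_app C g⁻¹, app_inv_app]
    simp [herm, inW, Fintype.sum_sum_type]
  refine ⟨?_, fun hall => ?_⟩
  · obtain ⟨y0, hy0, hy0q, hy0x⟩ := exists_point C hC hx0 hx00 hq1 hqx
    have hy00 : y0 ≠ 0 := fun e => zero_ne_one (α := F) (by rw [← hy0x, e, herm_zero_left])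
    set y := K1.Φ (inW y0) with hy
    have hyN : y ∈ nbr D d c a := hN1 ▸ ⟨y0, ⟨hy0, hy00⟩, rfl⟩
    have hyx : ¬ Commute x y := by
      rw [← hxe, hy, K1.comm_iff _ _ (hi hx0) (inW_ne_zero hx00) (hi hy0) (inW_ne_zero hy00), herm_inW,
        ← conj_herm, hy0x, map_one]
      exact one_ne_zero
    refine ⟨y, hyN, fun e => hyx (e ▸ Commute.refl _), ?_⟩
    set p := (app C g⁻¹ (inW y0)) ∘ Sum.inr
    have hpw : herm C p wa = 0 := by
      rw [← conj_herm, ← hfun, ← conj_herm C (inW y0), C.invol]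
      have : herm C (inW y0) E = 0 := herm_inW_vE C y0
      rw [hgwa, herm_smul_right] at this
      exact (mul_eq_zero.1 this).resolve_left ((map_ne_zero C.σ).2 hσa)
    have hpr : herm C p rw' = 0 := by
      rw [← conj_herm, ← hfun, ← hq0, hqu, ← conj_herm C y0, C.invol, hy0q]
    obtain ⟨π, hπ⟩ := prop_of_orth_pair C hC hwa hwa0 hr1 hrwa hpw hpr
    have hmem : ∀ e ∈ nbr D d c x, e ≠ y := fun e he h => hyx (h ▸ he.2.2.2)
    have hcomm : ∀ w, herm C w w = 0 → w ≠ 0 →
        (Commute y (K1.Φ (app C g (inW w))) ↔ herm C w (π • wa) = 0) := fun w hw hw0 => by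
      rw [Commute.symm_iff, hy, K1.comm_iff _ _ (hgi hw) (hgn hw0) (hi hy0) (inW_ne_zero hy00), hfun,
        ← hπ]
    by_cases hπ0 : π = 0
    · refine Or.inr fun e he => ⟨he.1.1.1, hmem e he, ?_⟩
      rw [hN2] at he
      obtain ⟨w, ⟨hw, hw0⟩, rfl⟩ := he
      rw [hcomm w hw hw0, hπ0, zero_smul, herm_zero_right]
    · refine Or.inl (Set.Subset.antisymm ?_ ?_)
      · rintro e ⟨he, -, -, hc'⟩
        rw [hN2] at he
        obtain ⟨w, ⟨hw, hw0⟩, rfl⟩ := he
        rw [hcomm w hw hw0, herm_smul_right, mul_eq_zero, map_eq_zero, or_iff_right hπ0] at hc'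
        obtain ⟨b, hb, hwb⟩ := prop_of_orth C hC hw hw0 hwa hwa0 hc'
        rw [Set.mem_singleton_iff, ← hae]
        refine (K1.eq_iff _ _ (hgi hw) (hgn hw0) (hgi hwa) (hgn hwa0)).2 ⟨b, hb, ?_⟩
        rw [← app_smul, ← inW_smul, ← hwb]
      · rintro e rfl
        exact ⟨⟨ha, ha.1.1, (Ne.symm hx.2.2.1), hx.2.2.2.symm⟩, ha.1.1, fun h => hyN.2.2.1 h.symm,
          hyN.2.2.2.symm⟩
  · have hker : ∀ u, herm C u u = 0 → herm C u q1 = 0 := by
      intro u hu
      by_cases hu0 : u = 0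
      · rw [hu0, herm_zero_left]
      have huN : K1.Φ (inW u) ∈ nbr D d c a := hN1 ▸ ⟨u, ⟨hu, hu0⟩, rfl⟩
      have hiso : ∀ w, herm C w w = 0 → herm C w ((app C g⁻¹ (inW u)) ∘ Sum.inr) = 0 := by
        intro w hw
        by_cases hw0 : w = 0
        · rw [hw0, herm_zero_left]
        have hm : K1.Φ (app C g (inW w)) ∈ nbr D d c x := hN2 ▸ ⟨w, ⟨hw, hw0⟩, rfl⟩
        rw [← hfun, ← K1.comm_iff _ _ (hgi hw) (hgn hw0) (hi hu) (inW_ne_zero hu0)]
        by_cases hux : K1.Φ (inW u) = x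
        · rw [hux]; exact hm.2.2.2.symm
        · exact (hall _ huN hux hm).2.2.symm
      let L : (I3 → F) →ₗ[F] (Fin 1 → F) :=
        { toFun := fun w _ => herm C w ((app C g⁻¹ (inW u)) ∘ Sum.inr)
          map_add' := fun v w => funext fun _ => herm_add_left C v w _
          map_smul' := fun b v => funext fun _ => herm_smul_left C b v _ }
      have hL : L = 0 := eq_of_eq_on_isotropic C hC L 0 fun w hw => funext fun _ => hiso w hw
      have h0 : herm C q0 (inW u) = 0 := by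
        rw [hq0, hfun]; exact congrFun (LinearMap.congr_fun hL rw') 0
      rw [hqu] at h0
      rw [← conj_herm, h0, map_zero]
    let L : (I3 → F) →ₗ[F] (Fin 1 → F) :=
      { toFun := fun w _ => herm C w q1
        map_add' := fun v w => funext fun _ => herm_add_left C v w _
        map_smul' := fun b v => funext fun _ => herm_smul_left C b v _ }
    have hL : L = 0 := eq_of_eq_on_isotropic C hC L 0 fun w hw => funext fun _ => hker w hw
    exact one_ne_zero (α := F) (hq1.symm.trans (congrFun (LinearMap.congr_fun hL q1) 0))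

include hC in
/-- At least eighty-two common partners. -/
theorem eighty_two_le (hD : IsThreeTranspositionClass D) {d c : G} (Kd : Coord C D d I5) (hdc : ¬ Commute d c)
    (hK : ∀ e ∈ D, Nonempty (Coord C D e I5)) (hd : d ∈ D) (hc : c ∈ D) {a : G}
    (ha : a ∈ perp D d ∩ perp D c) : 82 ≤ (perp D d ∩ perp D c).ncard := by
  classical
  have hda : ∀ e ∈ perp D d ∩ perp D c, d ∈ perp D e ∧ c ∈ perp D e := fun e he =>
    ⟨⟨hd, Ne.symm he.1.2.1, he.1.2.2.symm⟩, hc, Ne.symm he.2.2.1, he.2.2.2.symm⟩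
  have hprops : ∀ e ∈ perp D d ∩ perp D c, (nbr D d c e).ncard = 9 ∧
      ∀ x ∈ nbr D d c e, ∀ y ∈ nbr D d c e, x ≠ y → ¬ Commute x y := fun e he => by
    obtain ⟨Ke⟩ := hK e he.1.1
    exact nbr_props C hC Ke (hda e he).1 (hda e he).2 hdc
  obtain ⟨Ka⟩ := hK a ha.1.1
  obtain ⟨h9, hnca⟩ := hprops a ha
  obtain ⟨x, hx⟩ := Set.nonempty_of_ncard_ne_zero (s := nbr D d c a) (by omega)
  obtain ⟨⟨y, hy, hyx, hsp⟩, hnot⟩ := special_pair C hC hD Kd hdc hK hd hc ha hx
  have hmemA : ∀ p ∈ nbr D d c a, a ∈ nbr D d c p := fun p hp =>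
    ⟨ha, ha.1.1, Ne.symm hp.2.2.1, hp.2.2.2.symm⟩
  have hone : nbr D d c x ∩ perp D y = {a} := by
    refine hsp.resolve_right fun hsub => hnot fun y' hy' hy'x => ?_
    have he := const_pairs C hC hD Ka (hda a ha).1 (hda a ha).2 hdc hx hy (Ne.symm hyx) hx hy' (Ne.symm hy'x)
    rw [Set.inter_eq_left.2 hsub] at he
    exact Set.inter_eq_left.1 (Set.eq_of_subset_of_ncard_le Set.inter_subset_left he.le (Set.toFinite _))
  let S : G → Finset G := fun p => (Set.toFinite (nbr D d c p)).toFinset.erase a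
  have hS : ∀ p e, e ∈ S p ↔ e ≠ a ∧ e ∈ nbr D d c p := fun p e => by simp [S]
  have hScard : ∀ p ∈ nbr D d c a, (S p).card = 8 := fun p hp => by
    rw [Finset.card_erase_of_mem ((Set.Finite.mem_toFinset _).2 (hmemA p hp)),
      ← Set.ncard_eq_toFinset_card _ (Set.toFinite _), (hprops p hp.1).1]
  set A := (Set.toFinite (nbr D d c a)).toFinset with hA
  have hdisj : ∀ p ∈ A, ∀ q ∈ A, p ≠ q → Disjoint (S p) (S q) := by
    intro p hp q hq hpq
    rw [hA, Set.Finite.mem_toFinset] at hp hq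
    rw [Finset.disjoint_left]
    intro e hep heq
    rw [hS] at hep heq
    have h1 := const_pairs C hC hD Ka (hda a ha).1 (hda a ha).2 hdc hx hy (Ne.symm hyx) hp hq hpq
    rw [hone, Set.ncard_singleton] at h1
    have hsubset : ({a, e} : Set G) ⊆ nbr D d c p ∩ perp D q := by
      rintro z (rfl | rfl)
      · exact ⟨hmemA p hp, (hmemA q hq).2⟩
      · exact ⟨hep.2, heq.2.2⟩
    have h2 := Set.ncard_le_ncard hsubset (Set.toFinite _)
    rw [Set.ncard_pair (Ne.symm hep.1), ← h1] at h2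
    omega
  have hU : (A.biUnion S).card = 72 := by
    rw [Finset.card_biUnion hdisj, Finset.sum_congr rfl (fun p hp => hScard p (by simpa [hA] using hp)),
      Finset.sum_const, smul_eq_mul, hA, ← Set.ncard_eq_toFinset_card _ (Set.toFinite _), h9]
  have hdisA : Disjoint (insert a A) (A.biUnion S) := by
    rw [Finset.disjoint_left]
    intro e he he'
    obtain ⟨p, hp, hep⟩ := Finset.mem_biUnion.1 he'
    rw [hA, Set.Finite.mem_toFinset] at hp
    rw [hS] at hep
    rw [Finset.mem_insert, hA, Set.Finite.mem_toFinset] at he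
    exact hnca e (he.resolve_left hep.1) p hp hep.2.2.2.1 hep.2.2.2.2.symm
  have hsub : (((insert a A) ∪ A.biUnion S : Finset G) : Set G) ⊆ perp D d ∩ perp D c := by
    intro e he
    rw [Finset.mem_coe, Finset.mem_union, Finset.mem_insert, hA, Set.Finite.mem_toFinset,
      Finset.mem_biUnion] at he
    rcases he with (rfl | he) | ⟨p, -, hep⟩
    · exact ha
    · exact he.1
    · exact ((hS p e).1 hep).2.1
  have h := Set.ncard_le_ncard hsub (Set.toFinite _)
  rw [Set.ncard_coe_finset, Finset.card_union_of_disjoint hdisA, hU,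
    Finset.card_insert_of_notMem (by simp [hA]), hA, ← Set.ncard_eq_toFinset_card _ (Set.toFinite _), h9] at h
  exact h

end CfsgLib.FischerThm.Uni
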