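import Cfsg.Agent.FischerThm.Uni.Model

/-!
# The unitary model: pairs, thirds and generation
-/

set_option autoImplicit false

namespace CfsgLib.FischerThm.Uni

open Cfsg Matrix CfsgLib.RepBounds.Unit CfsgLib.U62 CfsgLib.FischerTypes

variable {F : Type} [Field F] [Fintype F] (C : ConjField F) (hC : C.q = 2)
variable {ι : Type} [Fintype ι] [DecidableEq ι] {n : ℕ} (hn : Fintype.card ι = n)

/-- The isotropic points orthogonal to one and distinct from it. -/
theorem mem_perp_iff [Nontrivial ι] {v : ι → F} (hv : herm C v v = 0) (x : Cfsg.PSU n F 2) :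
    x ∈ perp (uniD n F) (pt C hC hn v) ↔
      ∃ w, herm C w w = 0 ∧ w ≠ 0 ∧ herm C v w = 0 ∧ (∀ a : F, w ≠ a • v) ∧ x = pt C hC hn w := by
  constructor
  · rintro ⟨hx, hne, hc⟩
    obtain ⟨w, hw, hw0, rfl⟩ := (mem_uniD_iff C hC hn x).1 hx
    refine ⟨w, hw, hw0, (commute_pt_iff C hC hn hv hw).1 hc, fun a e => hne ?_, rfl⟩
    have ha : a ≠ 0 := fun h => hw0 (by rw [e, h, zero_smul])
    rw [e, pt_smul C hC hn ha hv]
  · rintro ⟨w, hw, hw0, h, hne, rfl⟩
    refine ⟨(mem_uniD_iff C hC hn _).2 ⟨w, hw, hw0, rfl⟩, fun e => ?_, (commute_pt_iff C hC hn hv hw).2 h⟩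
    obtain ⟨a, -, ha⟩ := eq_smul_of_pt_eq C hC hn hv hw hw0 e.symm
    exact hne a ha

theorem image_conj_uniD (g : suG C ι) :
    MulAut.conj (pr C hC hn g) '' uniD n F = uniD n F := by
  ext x
  constructor
  · rintro ⟨y, hy, rfl⟩
    obtain ⟨v, hv, hv0, rfl⟩ := (mem_uniD_iff C hC hn y).1 hy
    rw [MulAut.conj_apply, conj_pt C hC hn g hv]
    exact (mem_uniD_iff C hC hn _).2 ⟨_, by rw [herm_app, hv], app_ne_zero C g hv0, rfl⟩
  · intro hx
    obtain ⟨v, hv, hv0, rfl⟩ := (mem_uniD_iff C hC hn x).1 hx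
    refine ⟨pt C hC hn (app C g⁻¹ v),
      (mem_uniD_iff C hC hn _).2 ⟨_, by rw [herm_app, hv], app_ne_zero C _ hv0, rfl⟩, ?_⟩
    rw [MulAut.conj_apply, conj_pt C hC hn g (by rw [herm_app, hv]), app_app_inv]

omit [Fintype F] [Field F] in
theorem image_perp {G H : Type} [Group G] [Group H] (φ : G ≃* H) (D : Set G) (d : G) :
    φ '' perp D d = perp (φ '' D) (φ d) := by
  ext y
  constructor
  · rintro ⟨x, ⟨hx, hne, hc⟩, rfl⟩
    exact ⟨⟨x, hx, rfl⟩, fun e => hne (φ.injective e), hc.map φ.toMonoidHom⟩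
  · rintro ⟨⟨x, hx, rfl⟩, hne, hc⟩
    refine ⟨x, ⟨hx, fun e => hne (by rw [e]), ?_⟩, rfl⟩
    simpa using hc.map φ.symm.toMonoidHom

section two

variable {κ : Type} [Fintype κ] [DecidableEq κ]

include hC in
/-- Two non-orthogonal isotropic vectors are moved to multiples of `e` and `f`. -/
theorem exists_map_hyp [Nonempty κ] {u v : Fin 2 ⊕ κ → F} (hu : herm C u u = 0) (hv : herm C v v = 0)
    (huv : herm C u v ≠ 0) :
    ∃ (g : suG C (Fin 2 ⊕ κ)) (b : F), b ≠ 0 ∧ app C g u = vE C κ ∧ app C g v = b • vF C κ := by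
  have hu0 : u ≠ 0 := fun e => huv (by rw [e, herm_zero_left])
  obtain ⟨t, -, ht⟩ := exists_to_vE C hu hu0
  have hne : herm C (app C t v) (vE C κ) ≠ 0 := by
    rw [← ht, herm_app, ← conj_herm C u v]
    exact (map_ne_zero C.σ).2 huv
  obtain ⟨k, hk, hk'⟩ := Forms4.exists_translate C (x := app C t v) (by rw [herm_app, hv]) hne
  refine ⟨k⁻¹ * t, _, hne, ?_, ?_⟩
  · rw [app_mul, ht]
    conv_lhs => rw [← hk, app_inv_app]
  · rw [app_mul]
    conv_lhs => rw [hk', app_smul, app_inv_app]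

variable {m : ℕ} (hm : Fintype.card (Fin 2 ⊕ κ) = m)

omit [DecidableEq κ] in
theorem eq_inW_of_orth {w : Fin 2 ⊕ κ → F} (he : herm C w (vE C κ) = 0) (hf : herm C w (vF C κ) = 0) :
    w = inW (w ∘ Sum.inr) := by
  conv_lhs => rw [decomp C w, he, hf, zero_smul, zero_smul, zero_add, zero_add]

theorem common_eq [Nonempty κ] :
    perp (uniD m F) (pt C hC hm (vE C κ)) ∩ perp (uniD m F) (pt C hC hm (vF C κ)) =
      (fun g => pr C hC hm (RepBounds.Unit.blockHom C κ g)) ''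
        {g | ∃ w, herm C w w = 0 ∧ w ≠ 0 ∧ g = tv C w} := by
  haveI : Nontrivial (Fin 2 ⊕ κ) := ⟨⟨Sum.inl 0, Sum.inl 1, by simp⟩⟩
  ext x
  rw [Set.mem_inter_iff, mem_perp_iff C hC hm (herm_vE_vE C), mem_perp_iff C hC hm (herm_vF_vF C)]
  constructor
  · rintro ⟨⟨w, hw, hw0, hwe, -, rfl⟩, ⟨w', hw', hw0', hwf, -, he⟩⟩
    obtain ⟨a, ha, haw⟩ := eq_smul_of_pt_eq C hC hm hw hw' hw0' he
    rw [haw, herm_smul_right, mul_eq_zero, map_eq_zero, or_iff_right ha] at hwf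
    have h1 := eq_inW_of_orth C (w := w) (by rw [← conj_herm, hwe, map_zero])
      (by rw [← conj_herm, hwf, map_zero])
    have hz : herm C (w ∘ Sum.inr) (w ∘ Sum.inr) = 0 := by rw [← herm_inW, ← h1, hw]
    refine ⟨tv C (w ∘ Sum.inr), ⟨_, hz, fun e => hw0 (by rw [h1, e, inW_zero]), rfl⟩, ?_⟩
    show pr C hC hm _ = pt C hC hm w
    rw [blockHom_tv C hC hz, ← h1]
    rfl
  · rintro ⟨_, ⟨w, hw, hw0, rfl⟩, rfl⟩
    have hne : inW w ≠ (0 : Fin 2 ⊕ κ → F) := fun e => hw0 (by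
      funext j; simpa [inW] using congrFun e (Sum.inr j))
    refine ⟨⟨inW w, by rw [herm_inW, hw], hne, herm_vE_inW C w, fun a e => ?_, ?_⟩,
      ⟨inW w, by rw [herm_inW, hw], hne, herm_vF_inW C w, fun a e => ?_, ?_⟩⟩
    · have := congrArg (fun z => herm C z (vF C κ)) e
      simp [herm_inW_vF, herm_smul_left, herm_vE_vF] at this
      exact hne (by rw [e, ← this, zero_smul])
    · show pr C hC hm _ = _
      rw [blockHom_tv C hC hw]; rfl
    · have := congrArg (fun z => herm C z (vE C κ)) e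
      simp [herm_inW_vE, herm_smul_left, herm_vF_vE] at this
      exact hne (by rw [e, ← this, zero_smul])
    · show pr C hC hm _ = _
      rw [blockHom_tv C hC hw]; rfl

theorem pr_blockHom_injective [Nontrivial κ] :
    Function.Injective ((pr C hC hm).comp (RepBounds.Unit.blockHom C κ)) := by
  rw [← MonoidHom.ker_eq_bot_iff, eq_bot_iff]
  intro g hg
  rw [MonoidHom.mem_ker, MonoidHom.comp_apply, ← MonoidHom.mem_ker, ker_pr] at hg
  exact eq_one_of_blockHom_central C hC hg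

include hC in
theorem closure_tv [Nontrivial κ] :
    Subgroup.closure {g : suG C (Fin 2 ⊕ κ) | ∃ w, herm C w w = 0 ∧ w ≠ 0 ∧ g = tv C w} = ⊤ :=
  Transpositions.UnitaryKernel.top_of_all C hC _ fun x hx hx0 =>
    Subgroup.subset_closure ⟨x, hx, hx0, rfl⟩

end two

end CfsgLib.FischerThm.Uni
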