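import Cfsg.Agent.FischerThm.Uni.Transitive
import Cfsg.Agent.FischerTransitivity.Basic
import Cfsg.Agent.Transpositions.Classes

/-!
# Coordinates of a neighbourhood of unitary type
-/

set_option autoImplicit false

universe u

namespace CfsgLib.FischerThm.Uni

open Cfsg Matrix CfsgLib.RepBounds.Unit CfsgLib.U62 CfsgLib.FischerTypes

variable {G : Type u} [Group G] {D : Set G} {F : Type} [Field F] [Fintype F] (C : ConjField F)

/-- The partners of `d` as the isotropic points, with commuting as orthogonality, and the isometries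
realised by elements of the centraliser of `d`. -/
structure Coord (D : Set G) (d : G) (ι : Type) [Fintype ι] [DecidableEq ι] where
  /-- the member of an isotropic vector -/
  Φ : (ι → F) → G
  mem : ∀ v, herm C v v = 0 → v ≠ 0 → Φ v ∈ perp D d
  surj : ∀ y ∈ perp D d, ∃ v, herm C v v = 0 ∧ v ≠ 0 ∧ Φ v = y
  eq_iff : ∀ v w, herm C v v = 0 → v ≠ 0 → herm C w w = 0 → w ≠ 0 →
    (Φ v = Φ w ↔ ∃ a : F, a ≠ 0 ∧ w = a • v)
  comm_iff : ∀ v w, herm C v v = 0 → v ≠ 0 → herm C w w = 0 → w ≠ 0 →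
    (Commute (Φ v) (Φ w) ↔ herm C v w = 0)
  move : ∀ g : suG C ι, ∃ x : G, Commute x d ∧
    ∀ v, herm C v v = 0 → v ≠ 0 → x * Φ v * x⁻¹ = Φ (app C g v)
  third : ∀ v w, herm C v v = 0 → v ≠ 0 → herm C w w = 0 → w ≠ 0 →
    Φ v * Φ w * Φ v = Φ (w + herm C w v • v)

theorem exists_coord (hD : IsThreeTranspositionGroup D) {d : G} (hC : C.q = 2) {n : ℕ}
    (hiso : DIso (sImg (perp D d)) (uniD n F)) {ι : Type} [Fintype ι] [DecidableEq ι] [Nontrivial ι]
    (hn : Fintype.card ι = n) (hpart : ∀ v : ι → F, herm C v v = 0 → v ≠ 0 → ∃ y, herm C y y = 0 ∧ herm C v y ≠ 0) :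
    Nonempty (Coord C D d ι) := by
  classical
  obtain ⟨e, he⟩ := hiso
  have hne1 : ∀ x : ↥(Subgroup.closure (perp D d)), (x : G) ∈ perp D d →
      (QuotientGroup.mk x : SQuot (perp D d)) ≠ 1 := by
    intro x hx h
    have hm : e (QuotientGroup.mk x) ∈ uniD n F := he ▸ ⟨_, ⟨x, hx, rfl⟩, rfl⟩
    obtain ⟨v, hv, hv0, hev⟩ := (mem_uniD_iff C hC hn _).1 hm
    obtain ⟨y, hy, hvy⟩ := hpart v hv hv0
    rw [h, map_one] at hev
    exact hvy ((commute_pt_iff C hC hn hv hy).1 (hev ▸ Commute.one_left _))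
  have hex : ∀ v : ι → F, herm C v v = 0 → v ≠ 0 →
      ∃ x : ↥(Subgroup.closure (perp D d)), (x : G) ∈ perp D d ∧ e (QuotientGroup.mk x) = pt C hC hn v := by
    intro v hv hv0
    have hm : pt C hC hn v ∈ e '' sImg (perp D d) := he ▸ (mem_uniD_iff C hC hn _).2 ⟨v, hv, hv0, rfl⟩
    obtain ⟨_, ⟨x, hx, rfl⟩, hxe⟩ := hm
    exact ⟨x, hx, hxe⟩
  choose f hf hfe using hex
  let Φ : (ι → F) → G := fun v => if h : herm C v v = 0 ∧ v ≠ 0 then (f v h.1 h.2 : G) else d
  have hΦ : ∀ v hv hv0, Φ v = (f v hv hv0 : G) := fun v hv hv0 => dif_pos ⟨hv, hv0⟩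
  have huniq : ∀ (x : ↥(Subgroup.closure (perp D d))), (x : G) ∈ perp D d → ∀ (v : ι → F) (hv : herm C v v = 0) (hv0 : v ≠ 0),
      e (QuotientGroup.mk x) = pt C hC hn v → (x : G) = Φ v := by
    intro x hx v hv hv0 hxe
    rw [hΦ v hv hv0]
    exact congrArg Subtype.val (mk_inj hD hx (hf v hv hv0) (hne1 x hx) (e.injective (hxe.trans (hfe v hv hv0).symm)))
  refine ⟨⟨Φ, fun v hv hv0 => by rw [hΦ v hv hv0]; exact hf v hv hv0, ?_, ?_, ?_, ?_, ?_⟩⟩
  · intro y hy
    have hm : e (QuotientGroup.mk ⟨y, mem_perp_closure hy⟩) ∈ uniD n F := he ▸ ⟨_, ⟨_, hy, rfl⟩, rfl⟩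
    obtain ⟨v, hv, hv0, hev⟩ := (mem_uniD_iff C hC hn _).1 hm
    exact ⟨v, hv, hv0, (huniq _ hy v hv hv0 hev).symm⟩
  · intro v w hv hv0 hw hw0
    rw [← pt_eq_iff C hC hn hv hw hw0, hΦ v hv hv0, hΦ w hw hw0, ← hfe v hv hv0, ← hfe w hw hw0]
    constructor
    · intro h; rw [Subtype.ext h]
    · intro h; exact congrArg Subtype.val (mk_inj hD (hf v hv hv0) (hf w hw hw0) (hne1 _ (hf v hv hv0)) (e.injective h))
  · intro v w hv hv0 hw hw0
    rw [← commute_pt_iff C hC hn hv hw, hΦ v hv hv0, hΦ w hw hw0, ← hfe v hv hv0, ← hfe w hw hw0,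
      ← commute_mk_iff hD (hf v hv hv0) (hf w hw hw0)]
    exact ⟨fun h => h.map e.toMonoidHom, fun h => by simpa using h.map e.symm.toMonoidHom⟩
  · intro g
    obtain ⟨q, hq⟩ := e.surjective (pr C hC hn g)
    obtain ⟨x, rfl⟩ := QuotientGroup.mk_surjective q
    refine ⟨x, Subgroup.mem_centralizer_singleton_iff.1 (closure_le_centralizer d x.2), fun v hv hv0 => ?_⟩
    have h := huniq (x * f v hv hv0 * x⁻¹) (by simpa using conj_mem_perp' hD x.2 (hf v hv hv0))
      (app C g v) (by rw [herm_app, hv]) (app_ne_zero C g hv0)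
      (by rw [QuotientGroup.mk_mul, QuotientGroup.mk_mul, QuotientGroup.mk_inv, map_mul, map_mul, map_inv,
        hq, hfe v hv hv0, conj_pt C hC hn g hv])
    rw [← h, hΦ v hv hv0]
    rfl
  · intro v w hv hv0 hw hw0
    have hmem : ((f v hv hv0 * f w hw hw0 * f v hv hv0 : ↥(Subgroup.closure (perp D d))) : G) ∈ perp D d := by
      have := conj_mem_perp' hD (f v hv hv0).2 (hf w hw hw0)
      rwa [FischerTypes.inv_eq hD.1 (hf v hv hv0).1] at this
    have happ : app C (tv C v) w = w + herm C w v • v := app_tv C hC hv w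
    have h0 : w + herm C w v • v ≠ 0 := happ ▸ app_ne_zero C (tv C v) hw0
    have hz : herm C (w + herm C w v • v) (w + herm C w v • v) = 0 := by rw [← happ, herm_app, hw]
    have h := huniq _ hmem _ hz h0 (by
      rw [QuotientGroup.mk_mul, QuotientGroup.mk_mul, map_mul, map_mul, hfe v hv hv0, hfe w hw hw0, ← happ,
        ← conj_pt C hC hn (tv C v) hw, show pr C hC hn (tv C v) = pt C hC hn v from rfl]
      congr 1
      refine (inv_eq_of_mul_eq_one_right ?_).symm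
      rw [pt, ← map_mul, tv_mul_self C hC hv, map_one])
    rw [← h, hΦ v hv hv0, hΦ w hw hw0]
    rfl

variable {C}

/-- Transport to a conjugate member. -/
def Coord.conj {d : G} {ι : Type} [Fintype ι] [DecidableEq ι] (K : Coord C D d ι)
    (hD : IsThreeTranspositionGroup D) (g : G) : Coord C D (g * d * g⁻¹) ι where
  Φ v := g * K.Φ v * g⁻¹
  mem v hv hv0 := by
    obtain ⟨h1, h2, h3⟩ := K.mem v hv hv0
    exact ⟨hD.2.1 g _ h1, fun e => h2 (mul_left_cancel (mul_right_cancel e)), (Commute.conj_iff g).2 h3⟩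
  surj y hy := by
    obtain ⟨h1, h2, h3⟩ := hy
    have hm : g⁻¹ * y * g ∈ perp D d := by
      refine ⟨by simpa using hD.2.1 g⁻¹ y h1, fun e => h2 (by rw [← e]; group), ?_⟩
      have := (Commute.conj_iff g⁻¹).2 h3
      simpa [mul_assoc] using this
    obtain ⟨v, hv, hv0, e⟩ := K.surj _ hm
    exact ⟨v, hv, hv0, by rw [e]; group⟩
  eq_iff v w hv hv0 hw hw0 := by
    rw [← K.eq_iff v w hv hv0 hw hw0]
    exact ⟨fun e => mul_left_cancel (mul_right_cancel e), fun e => by rw [e]⟩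
  comm_iff v w hv hv0 hw hw0 := by
    rw [← K.comm_iff v w hv hv0 hw hw0]; exact Commute.conj_iff g
  move h := by
    obtain ⟨x, hx, hxv⟩ := K.move h
    refine ⟨g * x * g⁻¹, (Commute.conj_iff g).2 hx, fun v hv hv0 => ?_⟩
    rw [← hxv v hv hv0]; group
  third v w hv hv0 hw hw0 := by
    rw [← K.third v w hv hv0 hw hw0]; group

theorem exists_coord_of_class [Finite G] (hD : IsThreeTranspositionClass D) {d a : G} (hd : d ∈ D)
    (ha : a ∈ D) {ι : Type} [Fintype ι] [DecidableEq ι] (K : Coord C D d ι) :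
    Nonempty (Coord C D a ι) := by
  obtain ⟨g, rfl⟩ := FischerTransitivity.exists_conj hD hd ha
  exact ⟨K.conj (Transpositions.isThreeTranspositionGroup_of_class hD) g⟩

end CfsgLib.FischerThm.Uni
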