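import Cfsg.Agent.FischerThm.Uni.Coords
import Cfsg.Agent.FischerTypes.U62Count
import Cfsg.Agent.FischerUnitaryExcl.Main

/-!
# Counting in a neighbourhood of unitary type
-/

set_option autoImplicit false

universe u

namespace CfsgLib.FischerThm.Uni

open Cfsg Matrix CfsgLib.RepBounds.Unit CfsgLib.U62 CfsgLib.FischerTypes

variable {G : Type u} {F : Type} [Field F] [Fintype F] (C : ConjField F) (hC : C.q = 2)
variable {ι : Type} [Fintype ι] [DecidableEq ι]

include hC in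
/-- Three vectors for each point. -/
theorem three_mul_ncard (Φ : (ι → F) → G) (heq : ∀ v w, herm C v v = 0 → v ≠ 0 → herm C w w = 0 → w ≠ 0 →
    (Φ v = Φ w ↔ ∃ a : F, a ≠ 0 ∧ w = a • v)) (P : G → Prop) :
    Nat.card {v : ι → F // herm C v v = 0 ∧ v ≠ 0 ∧ P (Φ v)} =
      3 * (Φ '' {v | herm C v v = 0 ∧ v ≠ 0 ∧ P (Φ v)}).ncard := by
  classical
  set S := Φ '' {v | herm C v v = 0 ∧ v ≠ 0 ∧ P (Φ v)} with hS
  have hcard4 : Nat.card Fˣ = 3 := by
    rw [Nat.card_units, Nat.card_eq_fintype_card, C.card, hC]; norm_num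
  have hrep : ∀ y : S, ∃ v, (herm C v v = 0 ∧ v ≠ 0 ∧ P (Φ v)) ∧ Φ v = y.1 := fun y => y.2
  choose rep hrep hrepe using hrep
  have hiso : ∀ (s : Fˣ) (v : ι → F), herm C v v = 0 → v ≠ 0 →
      herm C ((s : F) • v) ((s : F) • v) = 0 ∧ (s : F) • v ≠ 0 ∧ Φ ((s : F) • v) = Φ v := fun s v hv hv0 =>
    ⟨by rw [herm_smul_left, herm_smul_right, hv, mul_zero, mul_zero], smul_ne_zero s.ne_zero hv0,
      ((heq v _ hv hv0 (by rw [herm_smul_left, herm_smul_right, hv, mul_zero, mul_zero])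
        (smul_ne_zero s.ne_zero hv0)).2 ⟨_, s.ne_zero, rfl⟩).symm⟩
  let f : S × Fˣ → {v : ι → F // herm C v v = 0 ∧ v ≠ 0 ∧ P (Φ v)} := fun p =>
    ⟨(p.2 : F) • rep p.1, (hiso _ _ (hrep p.1).1 (hrep p.1).2.1).1, (hiso _ _ (hrep p.1).1 (hrep p.1).2.1).2.1,
      by rw [(hiso _ _ (hrep p.1).1 (hrep p.1).2.1).2.2]; exact (hrep p.1).2.2⟩
  have hf : Function.Bijective f := by
    constructor
    · rintro ⟨y, s⟩ ⟨y', s'⟩ h
      have h' : (s : F) • rep y = (s' : F) • rep y' := congrArg Subtype.val h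
      have hy := congrArg Φ h'
      rw [(hiso s _ (hrep y).1 (hrep y).2.1).2.2, (hiso s' _ (hrep y').1 (hrep y').2.1).2.2,
        hrepe, hrepe] at hy
      obtain rfl : y = y' := Subtype.ext hy
      exact Prod.ext rfl (Units.ext (smul_left_injective F (hrep y).2.1 h'))
    · rintro ⟨v, hv, hv0, hvP⟩
      let y : S := ⟨Φ v, v, ⟨hv, hv0, hvP⟩, rfl⟩
      obtain ⟨a, ha, hav⟩ := (heq (rep y) v (hrep y).1 (hrep y).2.1 hv hv0).1 (hrepe y)
      exact ⟨(y, Units.mk0 a ha), Subtype.ext hav.symm⟩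
  rw [← Nat.card_congr (Equiv.ofBijective f hf), Nat.card_prod, hcard4, mul_comm, Nat.card_coe_set_eq]

theorem card_ne_zero_add_one :
    Nat.card {v : ι → F // herm C v v = 0 ∧ v ≠ 0} + 1 = Nat.card {v : ι → F // herm C v v = 0} := by
  classical
  rw [Nat.card_eq_fintype_card, Nat.card_eq_fintype_card, Fintype.card_subtype,
    Fintype.card_subtype, ← Finset.card_insert_of_notMem (a := (0 : ι → F)) (by simp)]
  congr 1
  ext v
  by_cases hv : v = 0
  · simp [hv, herm_zero_left]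
  · simp [hv]

include hC in
theorem three_mul_ncard_all (Φ : (ι → F) → G) (heq : ∀ v w, herm C v v = 0 → v ≠ 0 → herm C w w = 0 → w ≠ 0 →
    (Φ v = Φ w ↔ ∃ a : F, a ≠ 0 ∧ w = a • v)) :
    3 * (Φ '' {v | herm C v v = 0 ∧ v ≠ 0}).ncard + 1 = Nat.card {v : ι → F // herm C v v = 0} := by
  have h := three_mul_ncard C hC Φ heq (fun _ => True)
  simp only [and_true] at h
  rw [← h, card_ne_zero_add_one C]

variable [Group G] {D : Set G} {d : G}

/-- The five-dimensional space, its index set. -/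
abbrev I3 := Fin 2 ⊕ Fin 1

/-- The five-dimensional space, its index set. -/
abbrev I5 := Fin 2 ⊕ I3

include hC in
theorem perp_ncard_five (K : Coord C D d I5) : (perp D d).ncard = 165 := by
  have h := three_mul_ncard_all C hC K.Φ K.eq_iff
  have himg : K.Φ '' {v | herm C v v = 0 ∧ v ≠ 0} = perp D d := by
    ext y
    constructor
    · rintro ⟨v, ⟨hv, hv0⟩, rfl⟩; exact K.mem v hv hv0
    · intro hy
      obtain ⟨v, hv, hv0, e⟩ := K.surj y hy
      exact ⟨v, ⟨hv, hv0⟩, e⟩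
  rw [himg] at h
  have h5 := card_iso_aux C hC 5 (ι := I5) (by simp)
  norm_num [-Nat.card_eq_fintype_card] at h5
  omega

include hC in
theorem far_ncard_five (K : Coord C D d I5) :
    {b ∈ perp D d | ¬ Commute (K.Φ (vE C I3)) b}.ncard = 128 := by
  classical
  set e := vE C I3
  have he : herm C e e = 0 := herm_vE_vE C
  have he0 : e ≠ 0 := Forms4.vE_ne_zero C
  have h := three_mul_ncard C hC K.Φ K.eq_iff (fun b => ¬ Commute (K.Φ e) b)
  have himg : K.Φ '' {v | herm C v v = 0 ∧ v ≠ 0 ∧ ¬ Commute (K.Φ e) (K.Φ v)} =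
      {b ∈ perp D d | ¬ Commute (K.Φ e) b} := by
    ext y
    constructor
    · rintro ⟨v, ⟨hv, hv0, hc⟩, rfl⟩; exact ⟨K.mem v hv hv0, hc⟩
    · rintro ⟨hy, hc⟩
      obtain ⟨v, hv, hv0, rfl⟩ := K.surj y hy
      exact ⟨v, ⟨hv, hv0, hc⟩, rfl⟩
  rw [himg] at h
  have hsplit : Nat.card {v : I5 → F // herm C v v = 0 ∧ herm C v e = 0} +
      Nat.card {v : I5 → F // herm C v v = 0 ∧ herm C v e ≠ 0} = Nat.card {v : I5 → F // herm C v v = 0} := by
    rw [Nat.card_eq_fintype_card, Nat.card_eq_fintype_card, Nat.card_eq_fintype_card,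
      Fintype.card_subtype, Fintype.card_subtype, Fintype.card_subtype,
      ← Finset.card_union_of_disjoint (Finset.disjoint_filter.2 fun v _ h h' => h'.2 h.2)]
    congr 1
    ext v
    by_cases hv : herm C v e = 0 <;> simp [hv]
  have hperp : Nat.card {v : I5 → F // herm C v v = 0 ∧ herm C v e = 0} =
      4 * Nat.card {v : I3 → F // herm C v v = 0} := by
    have h' := Nat.card_congr (perpEquiv C (κ := I3) (fun _ => True) (fun _ => True) (fun _ _ => Iff.rfl))
    rw [Nat.card_prod, Nat.card_eq_fintype_card (α := F), C.card, hC] at h'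
    simpa [e] using h'
  have hfar : Nat.card {v : I5 → F // herm C v v = 0 ∧ v ≠ 0 ∧ ¬ Commute (K.Φ e) (K.Φ v)} =
      Nat.card {v : I5 → F // herm C v v = 0 ∧ herm C v e ≠ 0} := by
    refine Nat.card_congr (Equiv.subtypeEquivRight fun v => ?_)
    constructor
    · rintro ⟨h1, h2, h3⟩
      refine ⟨h1, fun h => h3 ((K.comm_iff e v he he0 h1 h2).2 ?_)⟩
      rw [← conj_herm, h, map_zero]
    · rintro ⟨h1, h2⟩
      have h0 : v ≠ 0 := fun h => h2 (by rw [h, herm_zero_left])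
      refine ⟨h1, h0, fun h => h2 ?_⟩
      rw [← conj_herm, (K.comm_iff e v he he0 h1 h0).1 h, map_zero]
  have h5 := card_iso_aux C hC 5 (ι := I5) (by simp)
  have h3 := card_iso_aux C hC 3 (ι := I3) (by simp)
  norm_num [-Nat.card_eq_fintype_card] at h5 h3
  beta_reduce at h
  rw [hfar] at h
  omega

/-- The possible numbers of common partners. -/
theorem mu_le {μ v : ℕ} (hμ0 : 0 < μ) (hμk : μ < 165) (hdvd : μ ∣ 165 * 128)
    (hv : v = 1 + 165 + 165 * 128 / μ)
    (h : 2 * (165 : ℤ) + ((v : ℤ) - 1) * (36 - μ) = 0 ∨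
      ∃ s : ℕ, (s : ℤ) ^ 2 = (36 - (μ : ℤ)) ^ 2 + 4 * (165 - (μ : ℤ))) : μ ≤ 66 := by
  by_contra hgt
  push Not at hgt
  rcases h with h | ⟨s, hs⟩
  · have h1 : (165 : ℤ) ≤ (v : ℤ) - 1 := by
      generalize 165 * 128 / μ = q at hv
      omega
    nlinarith
  · have h1 : (s : ℤ) * s = ((μ : ℤ) - 38) * ((μ : ℤ) - 38) + 4 * 2 ^ (2 * 5 - 3) := by
      norm_num; linarith
    obtain ⟨i, j, hij, hu⟩ := FischerUnitaryExcl.exists_exponents (n := 5) (by norm_num) h1
    obtain rfl : j = 7 - i := by omega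
    have hi : i ≤ 7 := by omega
    interval_cases i <;> norm_num at hu <;>
      first
        | omega
        | (obtain rfl : μ = 100 := by omega
           norm_num at hdvd)

end CfsgLib.FischerThm.Uni
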