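import Cfsg.Agent.FischerThm.Uni.Quot
import Cfsg.Agent.FormTranspositions.Unitary
import Cfsg.Agent.Transpositions.UnitaryKernel
import Cfsg.Agent.FischerTypes.U62Geometry
import Cfsg.Agent.Forms4.UnitarySimple

/-!
# The unitary model on isotropic points
-/

set_option autoImplicit false
set_option maxHeartbeats 400000

namespace CfsgLib.FischerThm.Uni

open Cfsg Matrix CfsgLib.RepBounds.Unit CfsgLib.U62 CfsgLib.FischerTypes

variable {F : Type} [Field F] [Fintype F] (C : ConjField F) (hC : C.q = 2)
variable {ι : Type} [Fintype ι] [DecidableEq ι] {n : ℕ} (hn : Fintype.card ι = n)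

/-- The coordinates identified with those of `SU`. -/
noncomputable def suEquiv : suG C ι ≃* Cfsg.SU n F 2 :=
  (U62.reindexEquiv C (Fintype.equivFinOfCardEq hn)).trans
    (MulEquiv.subgroupCongr (hC ▸ suG_fin_eq C n))

/-- The projection onto `PSU`. -/
noncomputable def pr : suG C ι →* Cfsg.PSU n F 2 :=
  (QuotientGroup.mk' _).comp (suEquiv C hC hn).toMonoidHom

/-- The member belonging to an isotropic vector. -/
noncomputable def pt (v : ι → F) : Cfsg.PSU n F 2 := pr C hC hn (tv C v)

theorem pr_surjective : Function.Surjective (pr C hC hn) :=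
  (QuotientGroup.mk'_surjective _).comp (suEquiv C hC hn).surjective

theorem ker_pr : (pr C hC hn).ker = Subgroup.center (suG C ι) := by
  ext x
  rw [MonoidHom.mem_ker, pr, MonoidHom.comp_apply, QuotientGroup.mk'_apply, QuotientGroup.eq_one_iff,
    Subgroup.mem_center_iff, Subgroup.mem_center_iff, MulEquiv.coe_toMonoidHom]
  exact ⟨fun h g => (suEquiv C hC hn).injective (by rw [map_mul, map_mul, h]), fun h g => by
    obtain ⟨g, rfl⟩ := (suEquiv C hC hn).surjective g
    rw [← map_mul, ← map_mul, h]⟩

theorem suEquiv_rank (g : suG C ι) :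
    ((((suEquiv C hC hn g : Matrix.SpecialLinearGroup (Fin n) F)) : Matrix (Fin n) (Fin n) F) - 1).rank =
      ((g.1 : Matrix ι ι F) - 1).rank := by
  let e := Fintype.equivFinOfCardEq hn
  have hval : (((suEquiv C hC hn g : Matrix.SpecialLinearGroup (Fin n) F)) : Matrix (Fin n) (Fin n) F) =
      (g.1 : Matrix ι ι F).submatrix e.symm e.symm := by
    simp only [suEquiv, U62.reindexEquiv, MulEquiv.trans_apply, MulEquiv.subgroupCongr_apply,
      MonoidHom.toMulEquiv_apply, reindexHom, MonoidHom.coe_mk, OneHom.coe_mk, e]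
  have hsub : (g.1 : Matrix ι ι F).submatrix e.symm e.symm - 1 =
      ((g.1 : Matrix ι ι F) - 1).submatrix e.symm e.symm := by
    ext i j
    simp [Matrix.one_apply, e.symm.injective.eq_iff]
  rw [hval, hsub, Matrix.rank_submatrix]

include hC in
theorem tv_conj (g : suG C ι) {v : ι → F} (hv : herm C v v = 0) :
    g * tv C v * g⁻¹ = tv C (app C g v) := conj_tv C hC g hv

theorem conj_pt (g : suG C ι) {v : ι → F} (hv : herm C v v = 0) :
    pr C hC hn g * pt C hC hn v * (pr C hC hn g)⁻¹ = pt C hC hn (app C g v) := by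
  rw [pt, pt, ← map_inv, ← map_mul, ← map_mul, tv_conj C hC g hv]

theorem pt_smul {a : F} (ha : a ≠ 0) {v : ι → F} (hv : herm C v v = 0) :
    pt C hC hn (a • v) = pt C hC hn v := by rw [pt, pt, tv_smul C hC ha hv]

omit [Fintype ι] [DecidableEq ι] in
theorem app_ne_zero {ι : Type} [Fintype ι] [DecidableEq ι] (g : suG C ι) {v : ι → F} (hv : v ≠ 0) :
    app C g v ≠ 0 := fun h => hv (by rw [← app_inv_app C g v, h]; simp [app])

theorem mem_uniD_iff (x : Cfsg.PSU n F 2) :
    x ∈ uniD n F ↔ ∃ v, herm C v v = 0 ∧ v ≠ 0 ∧ x = pt C hC hn v := by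
  constructor
  · rintro ⟨g, hg, rfl⟩
    obtain ⟨g, rfl⟩ := (suEquiv C hC hn).surjective g
    have hg' : ((g.1 : Matrix ι ι F) - 1).rank = 1 := (suEquiv_rank C hC hn g).symm.trans hg
    obtain ⟨v, hv0, hv, hT⟩ := FormTranspositions.exists_isTransv_of_rank_one C hC g hg'
    refine ⟨v, hv, hv0, ?_⟩
    rw [pt, ← hT.unique C (isTransv_tv C hC hv)]
    rfl
  · rintro ⟨v, hv, hv0, rfl⟩
    exact ⟨suEquiv C hC hn (tv C v), (suEquiv_rank C hC hn _).trans
      (FormTranspositions.rank_one_of_isTransv C hv0 (isTransv_tv C hC hv)), rfl⟩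

include hC in
/-- A central involution fixing no line but itself is trivial. -/
theorem eq_one_of_sq [Nontrivial ι] {z : suG C ι} (hz : z ∈ Subgroup.center (suG C ι)) (h2 : z * z = 1) :
    z = 1 := by
  have hfix : ∀ u, herm C u u = 0 → app C z u = u := by
    intro u hu
    by_cases hu0 : u = 0
    · rw [hu0]; simp [app]
    have h1 : tv C u = tv C (app C z u) := by
      rw [← tv_conj C hC z hu, ← Subgroup.mem_center_iff.1 hz, mul_inv_cancel_right]
    obtain ⟨a, ha⟩ := eq_smul_of_tv_eq C hC hu (by rw [herm_app, hu]) (app_ne_zero C z hu0) h1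
    have h3 : a * a = 1 := by
      have : u = (a * a) • u := by
        conv_lhs => rw [← app_one C u, ← h2, app_mul, ha, app_smul, ha, smul_smul]
      exact smul_left_injective F hu0 (show (a * a) • u = (1 : F) • u by rw [← this, one_smul])
    have ha0 : a ≠ 0 := fun h => by rw [h, zero_mul] at h3; exact zero_ne_one h3
    have ha1 : a = 1 := by
      have := U62.pow_three C hC ha0
      rw [pow_succ, pow_two, h3, one_mul] at this
      exact this
    rw [ha, ha1, one_smul]
  have h1 := eq_of_eq_on_isotropic C hC (Matrix.mulVecLin z.1.1) LinearMap.id (fun u hu => hfix u hu)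
  exact suG_ext C fun x => by rw [app_one]; exact LinearMap.congr_fun h1 x

theorem eq_smul_of_pt_eq [Nontrivial ι] {v w : ι → F} (hv : herm C v v = 0) (hw : herm C w w = 0)
    (hw0 : w ≠ 0) (h : pt C hC hn v = pt C hC hn w) : ∃ a : F, a ≠ 0 ∧ w = a • v := by
  set z := tv C v * tv C w with hzd
  have hz : z ∈ Subgroup.center (suG C ι) := by
    rw [← ker_pr C hC hn, MonoidHom.mem_ker, hzd, map_mul]
    show pt C hC hn v * pt C hC hn w = 1
    rw [← h, pt, ← map_mul, tv_mul_self C hC hv, map_one]
  have hw' : tv C w = tv C v * z := by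
    rw [hzd, ← mul_assoc, tv_mul_self C hC hv, one_mul]
  have h2 : z * z = 1 := by
    have e := tv_mul_self C hC hw
    rw [hw', mul_assoc, ← mul_assoc z (tv C v) z, ← Subgroup.mem_center_iff.1 hz (tv C v),
      mul_assoc (tv C v) z z, ← mul_assoc (tv C v), tv_mul_self C hC hv, one_mul] at e
    exact e
  rw [eq_one_of_sq C hC hz h2, mul_one] at hw'
  obtain ⟨a, ha⟩ := eq_smul_of_tv_eq C hC hv hw hw0 hw'.symm
  exact ⟨a, fun h0 => hw0 (by rw [ha, h0, zero_smul]), ha⟩

theorem commute_pt_iff [Nontrivial ι] {v w : ι → F} (hv : herm C v v = 0) (hw : herm C w w = 0) :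
    Commute (pt C hC hn v) (pt C hC hn w) ↔ herm C v w = 0 := by
  constructor
  · intro h
    by_contra hne
    have hne' : herm C w v ≠ 0 := fun e => hne (by rw [← conj_herm, e, map_zero])
    have hw0 : w ≠ 0 := fun e => hne (by rw [e, herm_zero_right])
    have h1 : pt C hC hn (app C (tv C v) w) = pt C hC hn w := by
      rw [← conj_pt C hC hn _ hw, show pr C hC hn (tv C v) = pt C hC hn v from rfl, h.eq,
        mul_inv_cancel_right]
    obtain ⟨a, ha0, ha⟩ := eq_smul_of_pt_eq C hC hn (by rw [herm_app, hw]) hw hw0 h1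
    rw [app_tv C hC hv] at ha
    have h2 := congrArg (fun x => herm C x v) ha
    simp only [herm_smul_left, herm_add_left, hv, mul_zero, add_zero] at h2
    have ha1 : a = 1 := mul_right_cancel₀ hne' (by rw [one_mul]; exact h2.symm)
    rw [ha1, one_smul, left_eq_add, smul_eq_zero] at ha
    rcases ha with h0 | h0
    · exact hne' h0
    · exact hne' (by rw [h0, herm_zero_right])
  · intro h
    exact (commute_tv C hC hv hw (by rw [← conj_herm, h, map_zero])).map (pr C hC hn)

theorem pt_eq_iff [Nontrivial ι] {v w : ι → F} (hv : herm C v v = 0) (hw : herm C w w = 0) (hw0 : w ≠ 0) :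
    pt C hC hn v = pt C hC hn w ↔ ∃ a : F, a ≠ 0 ∧ w = a • v :=
  ⟨eq_smul_of_pt_eq C hC hn hv hw hw0, fun ⟨_, ha, e⟩ => by rw [e, pt_smul C hC hn ha hv]⟩

section two

variable {κ : Type} [Fintype κ] [DecidableEq κ]

include hC in
/-- An element fixing `e`-translates of the complement is trivial. -/
theorem eq_one_of_blockHom_central [Nontrivial κ] {h : suG C κ}
    (hh : RepBounds.Unit.blockHom C κ h ∈ Subgroup.center (suG C (Fin 2 ⊕ κ))) : h = 1 := by
  have hfix : ∀ w, herm C w w = 0 → app C h w = w := by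
    intro w hw
    set u := vE C κ + inW w with hu
    have huu : herm C u u = 0 := by
      simp [hu, herm_add_left, herm_add_right, herm_vE_vE, herm_vE_inW, herm_inW_vE, herm_inW, hw]
    have hu0 : u ≠ 0 := fun e => by
      have := congrArg (fun x => herm C x (vF C κ)) e
      simp [hu, herm_add_left, herm_vE_vF, herm_inW_vF, herm_zero_left] at this
    have hg : app C (RepBounds.Unit.blockHom C κ h) u = vE C κ + inW (app C h w) := by
      rw [app_blockHom]
      ext (i | i)
      · simp [hu, vE, inW]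
      · have : (u ∘ Sum.inr) = w := by ext j; simp [hu, vE, inW]
        rw [Sum.elim_inr, this]
        simp [vE, inW]
    have h1 : tv C u = tv C (app C (RepBounds.Unit.blockHom C κ h) u) := by
      rw [← tv_conj C hC _ huu, ← Subgroup.mem_center_iff.1 hh, mul_inv_cancel_right]
    obtain ⟨a, ha⟩ := eq_smul_of_tv_eq C hC huu (by rw [herm_app, huu]) (app_ne_zero C _ hu0) h1
    rw [hg] at ha
    have h2 := congrArg (fun x => herm C x (vF C κ)) ha
    simp [hu, herm_add_left, herm_smul_left, herm_vE_vF, herm_inW_vF] at h2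
    rw [← h2, one_smul, hu, add_right_inj] at ha
    funext j
    simpa [inW] using congrFun ha (Sum.inr j)
  have h1 := eq_of_eq_on_isotropic C hC (Matrix.mulVecLin h.1.1) LinearMap.id (fun u hu => hfix u hu)
  exact suG_ext C fun x => by rw [app_one]; exact LinearMap.congr_fun h1 x

include hC in
theorem blockHom_tv {w : κ → F} (hw : herm C w w = 0) :
    RepBounds.Unit.blockHom C κ (tv C w) = tv C (inW w) :=
  ((isTransv_tv C hC hw).blockHom C).unique C (isTransv_tv C hC (by rw [herm_inW, hw]))

end two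

end CfsgLib.FischerThm.Uni
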