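import Cfsg.Agent.FischerThm.Defs

/-!
# Transport of the subgroup generated by a set, modulo its centre
-/

set_option autoImplicit false

universe u v w

namespace CfsgLib.FischerThm.Uni

open Cfsg

theorem map_center_eq {A : Type*} [Group A] {B : Type*} [Group B] (e : A ≃* B) :
    (Subgroup.center A).map e.toMonoidHom = Subgroup.center B := by
  ext t
  simp only [Subgroup.mem_map, Subgroup.mem_center_iff]
  constructor
  · rintro ⟨y, hy, rfl⟩ g
    obtain ⟨g, rfl⟩ := e.surjective g
    exact (map_mul e g y).symm.trans ((congrArg e (hy g)).trans (map_mul e y g))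
  · exact fun ht => ⟨e.symm t, fun g => e.injective (by simpa using ht (e g)), by simp⟩

/-- An injective image of a generating set: the quotient by the centre is that of the source. -/
theorem diso_sImg_of_injective {H : Type u} [Group H] {G : Type v} [Group G] (φ : H →* G)
    (hφ : Function.Injective φ) {T : Set H} (hT : Subgroup.closure T = ⊤) {K : Type w} [Group K]
    (π : H →* K) (hπ : Function.Surjective π) (hker : π.ker = Subgroup.center H) :
    DIso (sImg (φ '' T)) (π '' T) := by
  have hcl : Subgroup.closure (φ '' T) = φ.range := by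
    rw [← MonoidHom.map_closure, hT, MonoidHom.range_eq_map]
  let e : H ≃* ↥(Subgroup.closure (φ '' T)) :=
    (MonoidHom.ofInjective hφ).trans (MulEquiv.subgroupCongr hcl.symm)
  have hev : ∀ h, (e h : G) = φ h := fun h => rfl
  let E1 : H ⧸ π.ker ≃* SQuot (φ '' T) := QuotientGroup.congr _ _ e (by rw [hker]; exact map_center_eq e)
  let E2 : K ≃* SQuot (φ '' T) :=
    (QuotientGroup.quotientKerEquivOfSurjective π hπ).symm.trans E1
  have hE2 : ∀ h, E2 (π h) = QuotientGroup.mk (e h) := fun h => by
    show E1 ((QuotientGroup.quotientKerEquivOfSurjective π hπ).symm (π h)) = _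
    have : (QuotientGroup.quotientKerEquivOfSurjective π hπ).symm (π h) = QuotientGroup.mk h := by
      rw [MulEquiv.symm_apply_eq]; rfl
    rw [this]
    rfl
  refine DIso.symm ⟨E2, Set.Subset.antisymm ?_ ?_⟩
  · rintro _ ⟨_, ⟨t, ht, rfl⟩, rfl⟩
    exact ⟨e t, ⟨t, ht, (hev t).symm⟩, (hE2 t).symm⟩
  · rintro _ ⟨x, ⟨t, ht, htx⟩, rfl⟩
    refine ⟨π t, ⟨t, ht, rfl⟩, ?_⟩
    rw [hE2]
    exact congrArg QuotientGroup.mk (Subtype.ext ((hev t).trans htx))

/-- An isomorphism carrying one set onto another. -/
theorem diso_sImg_image {G : Type u} [Group G] {H : Type v} [Group H] (φ : G ≃* H) (S : Set G) :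
    DIso (sImg S) (sImg (φ '' S)) := by
  refine DIso.symm ?_
  have h := diso_sImg_of_injective (φ.toMonoidHom.comp (Subgroup.closure S).subtype)
    (φ.injective.comp Subtype.val_injective) (T := {x | (x : G) ∈ S})
    (by
      rw [← Subgroup.map_injective (Subgroup.closure S).subtype_injective |>.eq_iff, MonoidHom.map_closure,
        ← MonoidHom.range_eq_map, Subgroup.range_subtype]
      congr 1
      ext y
      exact ⟨fun ⟨x, hx, e⟩ => e ▸ hx, fun hy => ⟨⟨y, Subgroup.subset_closure hy⟩, hy, rfl⟩⟩)
    (QuotientGroup.mk' _) (QuotientGroup.mk'_surjective _) (QuotientGroup.ker_mk' _)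
  have hset : (φ.toMonoidHom.comp (Subgroup.closure S).subtype) '' {x | (x : G) ∈ S} = φ '' S := by
    ext y
    constructor
    · rintro ⟨x, hx, rfl⟩; exact ⟨(x : G), hx, rfl⟩
    · rintro ⟨x, hx, rfl⟩; exact ⟨⟨x, Subgroup.subset_closure hx⟩, hx, rfl⟩
  rw [hset] at h
  exact h

end CfsgLib.FischerThm.Uni
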