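import Cfsg.Agent.FischerThm.Uni.FiveCount

/-!
# A closed section of the nine points

Nine pairwise non-commuting members closed under thirds, all commuting with one member `a` of a
neighbourhood of unitary type of dimension five, are the points of a complement of `a` in its perp.
-/

set_option autoImplicit false

universe u

namespace CfsgLib.FischerThm.Uni

open Cfsg Matrix CfsgLib.RepBounds.Unit CfsgLib.U62 CfsgLib.FischerTypes

variable {G : Type u} [Group G] {D : Set G} {F : Type} [Field F] [Fintype F] (C : ConjField F) (hC : C.q = 2)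
variable {d : G}

/-- Change of coordinates. -/
def Coord.twist {ι : Type} [Fintype ι] [DecidableEq ι] (K : Coord C D d ι) (g : suG C ι) : Coord C D d ι where
  Φ v := K.Φ (app C g v)
  mem v hv hv0 := K.mem _ (by rw [herm_app, hv]) (app_ne_zero C g hv0)
  surj y hy := by
    obtain ⟨v, hv, hv0, e⟩ := K.surj y hy
    exact ⟨app C g⁻¹ v, by rw [herm_app, hv], app_ne_zero C _ hv0, by rw [app_app_inv]; exact e⟩
  eq_iff v w hv hv0 hw hw0 := by
    rw [K.eq_iff _ _ (by rw [herm_app, hv]) (app_ne_zero C g hv0) (by rw [herm_app, hw]) (app_ne_zero C g hw0)]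
    constructor
    · rintro ⟨a, ha, e⟩
      refine ⟨a, ha, ?_⟩
      rw [← app_inv_app C g w, e, app_smul, app_inv_app]
    · rintro ⟨a, ha, e⟩; exact ⟨a, ha, by rw [e, app_smul]⟩
  comm_iff v w hv hv0 hw hw0 := by
    rw [K.comm_iff _ _ (by rw [herm_app, hv]) (app_ne_zero C g hv0) (by rw [herm_app, hw]) (app_ne_zero C g hw0),
      herm_app]
  move h := by
    obtain ⟨x, hx, hxv⟩ := K.move (g * h * g⁻¹)
    refine ⟨x, hx, fun v hv hv0 => ?_⟩
    rw [hxv _ (by rw [herm_app, hv]) (app_ne_zero C g hv0), app_mul, app_mul, app_inv_app]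
  third v w hv hv0 hw hw0 := by
    rw [K.third _ _ (by rw [herm_app, hv]) (app_ne_zero C g hv0) (by rw [herm_app, hw]) (app_ne_zero C g hw0),
      herm_app, app_add, app_smul]

theorem closed_eq {N S : Set G} (hN : N.Finite) (h9 : N.ncard = 9)
    (hbraid : ∀ p ∈ N, ∀ q ∈ N, p ≠ q → p * q * p = q * p * q) (hsq : ∀ p ∈ N, p * p = 1)
    (hcl : ∀ p ∈ N, ∀ q ∈ N, p * q * p ∈ N)
    (hSN : S ⊆ N) (hS : ∀ p ∈ S, ∀ q ∈ S, p * q * p ∈ S) (h5 : 5 ≤ S.ncard) : S = N := by
  refine hSN.antisymm fun p hp => ?_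
  by_contra hpS
  have hsub : (fun q => p * q * p) '' S ⊆ N \ (insert p S) := by
    rintro _ ⟨q, hq, rfl⟩
    have hqN := hSN hq
    have hqp : p ≠ q := fun e => hpS (e ▸ hq)
    refine ⟨hcl p hp q hqN, ?_⟩
    rintro (e | e)
    · apply hqp
      have h2 := congrArg (fun z => p * z * p) e
      simp only [← mul_assoc, hsq p hp, one_mul] at h2
      rw [mul_assoc, hsq p hp, mul_one] at h2
      exact h2.symm
    · apply hpS
      have h2 := hS q hq _ e
      beta_reduce at h2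
      rw [hbraid p hp q hqN hqp, ← mul_assoc, ← mul_assoc, hsq q hqN, one_mul, mul_assoc,
        hsq q hqN, mul_one] at h2
      exact h2
  have hinj : Function.Injective (fun q => p * q * p) := fun a b e => mul_left_cancel (mul_right_cancel e)
  have h1 := Set.ncard_le_ncard hsub hN.sdiff
  rw [Set.ncard_image_of_injective _ hinj,
    Set.ncard_sdiff (Set.insert_subset hp hSN) (hN.subset (Set.insert_subset hp hSN)),
    Set.ncard_insert_of_notMem hpS (hN.subset hSN), h9] at h1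
  omega

include hC in
theorem card_iso_three : Nat.card {v : I3 → F // herm C v v = 0} = 28 := by
  have h3 := card_iso_aux C hC 3 (ι := I3) (by simp)
  norm_num [-Nat.card_eq_fintype_card] at h3
  omega

omit [Fintype F] in
theorem inW_ne_zero {κ : Type} {w : κ → F} (hw : w ≠ 0) : inW w ≠ 0 := fun e =>
  hw (by funext j; simpa [inW] using congrFun e (Sum.inr j))

/-- The point of the complement of the hyperbolic pair in dimension three. -/
noncomputable def rr : I3 → F := inW fun _ => 1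

theorem herm_rr : herm C (rr : I3 → F) rr = 1 := by
  rw [rr, herm_inW]; simp [herm]

theorem decomp_three (w : I3 → F) :
    w = herm C w (vF C (Fin 1)) • vE C (Fin 1) + herm C w (vE C (Fin 1)) • vF C (Fin 1) +
      herm C w rr • rr := by
  have h : w ∘ Sum.inr = herm C w rr • (fun _ : Fin 1 => (1 : F)) := by
    funext j
    simp [rr, inW, herm, Fintype.sum_sum_type, Subsingleton.elim j 0]
  conv_lhs => rw [decomp C w, h, inW_smul]
  rfl

theorem herm_left_I5 (v : I5 → F) (hv : herm C v (vE C I3) = 0) :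
    v = herm C v (vF C I3) • vE C I3 + inW (v ∘ Sum.inr) := by
  conv_lhs => rw [decomp C v, hv, zero_smul, add_zero]

theorem herm_coord (s t : F) (w w' : I3 → F) :
    herm C (s • vE C I3 + inW w) (t • vE C I3 + inW w') = herm C w w' := by
  simp [herm_add_left, herm_add_right, herm_smul_left, herm_smul_right, herm_vE_vE, herm_vE_inW,
    herm_inW_vE, herm_inW]

include hC in
/-- Coordinates in which `a` is `e` and the nine members are the points orthogonal to `e` and `f`. -/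
theorem exists_section (hD : IsThreeTranspositionClass D) (K : Coord C D d I5) {a : G}
    (ha : a ∈ perp D d) {N : Set G} (hNfin : N.Finite) (hN : N ⊆ perp D d) (hNa : ∀ y ∈ N, y ≠ a ∧ Commute a y)
    (h9 : N.ncard = 9) (hnc : ∀ x ∈ N, ∀ y ∈ N, x ≠ y → ¬ Commute x y)
    (hcl : ∀ x ∈ N, ∀ y ∈ N, x * y * x ∈ N) :
    ∃ h : suG C I5, (K.twist C h).Φ (vE C I3) = a ∧
      N = (fun w => (K.twist C h).Φ (inW w)) '' {w : I3 → F | herm C w w = 0 ∧ w ≠ 0} := by
  classical
  obtain ⟨va, hva, hva0, hvae⟩ := K.surj a ha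
  obtain ⟨t, -, ht⟩ := exists_to_vE C hva hva0
  let K1 := K.twist C t⁻¹
  have hK1a : K1.Φ (vE C I3) = a := by
    show K.Φ (app C t⁻¹ (vE C I3)) = a
    rw [← ht, app_inv_app, hvae]
  set E := vE C I3 with hE
  have hE0 : E ≠ 0 := Forms4.vE_ne_zero C
  have hEE : herm C E E = 0 := herm_vE_vE C
  -- each member of `N` is `α • E + inW w`
  have hrep : ∀ y ∈ N, ∃ (α : F) (w : I3 → F), herm C w w = 0 ∧ w ≠ 0 ∧ K1.Φ (α • E + inW w) = y := by
    intro y hy
    obtain ⟨v, hv, hv0, e⟩ := K1.surj y (hN hy)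
    obtain ⟨hya, hay⟩ := hNa y hy
    have hvE : herm C v E = 0 := by
      rw [← conj_herm, (K1.comm_iff E v hEE hE0 hv hv0).1 (by rw [hK1a, e]; exact hay), map_zero]
    have hd := herm_left_I5 C v hvE
    refine ⟨_, v ∘ Sum.inr, ?_, ?_, by rw [← hd, e]⟩
    · rw [← herm_coord C (herm C v (vF C I3)) (herm C v (vF C I3)), ← hd, hv]
    · intro h0
      rw [h0, inW_zero, add_zero] at hd
      have hs : herm C v (vF C I3) ≠ 0 := fun h => hv0 (by rw [hd, h, zero_smul])
      exact hya (by rw [← e, ← hK1a, eq_comm, K1.eq_iff E v hEE hE0 hv hv0]; exact ⟨_, hs, hd⟩)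
  choose α wv hwv hwv0 hwe using hrep
  have hiso : ∀ (s : F) (w : I3 → F), herm C w w = 0 → w ≠ 0 →
      herm C (s • E + inW w) (s • E + inW w) = 0 ∧ s • E + inW w ≠ 0 := fun s w hw hw0 =>
    ⟨by rw [herm_coord, hw], fun e => hw0 (by
      funext j; simpa [inW, vE, hE] using congrFun e (Sum.inr j))⟩
  -- every point of the three-dimensional space is hit
  have hhit : ∀ w : I3 → F, herm C w w = 0 → w ≠ 0 → ∃ s : F, K1.Φ (s • E + inW w) ∈ N := by
    let T := {w : I3 → F // herm C w w = 0 ∧ w ≠ 0}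
    let f : ↥N × Fˣ → T := fun p => ⟨(p.2 : F) • wv p.1 p.1.2,
      by rw [herm_smul_left, herm_smul_right, hwv, mul_zero, mul_zero], smul_ne_zero p.2.ne_zero (hwv0 _ _)⟩
    have hinj : Function.Injective f := by
      rintro ⟨⟨y, hy⟩, s⟩ ⟨⟨y', hy'⟩, s'⟩ h
      have h' : (s : F) • wv y hy = (s' : F) • wv y' hy' := congrArg Subtype.val h
      have hyy : y = y' := by
        by_contra hne
        refine hnc y hy y' hy' hne ?_
        rw [← hwe y hy, ← hwe y' hy', K1.comm_iff _ _ (hiso _ _ (hwv _ _) (hwv0 _ _)).1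
          (hiso _ _ (hwv _ _) (hwv0 _ _)).2 (hiso _ _ (hwv _ _) (hwv0 _ _)).1
          (hiso _ _ (hwv _ _) (hwv0 _ _)).2, herm_coord]
        have h2 : wv y' hy' = ((s' : F)⁻¹ * s) • wv y hy := by
          rw [← smul_smul, h', inv_smul_smul₀ s'.ne_zero]
        rw [h2, herm_smul_right, hwv, mul_zero]
      subst hyy
      exact Prod.ext rfl (Units.ext (smul_left_injective F (hwv0 _ _) h'))
    have hT : Nat.card T = 27 := by
      have := card_ne_zero_add_one C (ι := I3)
      rw [card_iso_three C hC] at this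
      show Nat.card {w : I3 → F // herm C w w = 0 ∧ w ≠ 0} = 27
      omega
    have hU : Nat.card Fˣ = 3 := by
      rw [Nat.card_units, Nat.card_eq_fintype_card, C.card, hC]; norm_num
    haveI : Finite ↥N := hNfin
    haveI : Finite T := Subtype.finite
    haveI : Fintype ↥N := Fintype.ofFinite _
    haveI : Fintype T := Fintype.ofFinite _
    have hbij : Function.Bijective f := (Fintype.bijective_iff_injective_and_card f).2 ⟨hinj, by
      rw [← Nat.card_eq_fintype_card, ← Nat.card_eq_fintype_card, Nat.card_prod, hT, hU,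
        Nat.card_coe_set_eq, h9]⟩
    intro w hw hw0
    obtain ⟨⟨⟨y, hy⟩, s⟩, hs⟩ := hbij.2 ⟨w, hw, hw0⟩
    have hs' : (s : F) • wv y hy = w := congrArg Subtype.val hs
    refine ⟨(s : F) * α y hy, ?_⟩
    rw [show ((s : F) * α y hy) • E + inW w = (s : F) • (α y hy • E + inW (wv y hy)) by
      rw [smul_add, smul_smul, ← inW_smul, hs']]
    rw [← (K1.eq_iff _ _ (hiso _ _ (hwv y hy) (hwv0 y hy)).1 (hiso _ _ (hwv y hy) (hwv0 y hy)).2
      (by rw [herm_smul_left, herm_smul_right, (hiso _ _ (hwv y hy) (hwv0 y hy)).1, mul_zero, mul_zero])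
      (smul_ne_zero s.ne_zero (hiso _ _ (hwv y hy) (hwv0 y hy)).2)).2 ⟨_, s.ne_zero, rfl⟩, hwe]
    exact hy
  -- three independent points
  set e₁ := vE C (Fin 1) with he₁
  set f₁ := vF C (Fin 1) with hf₁
  obtain ⟨s, hs⟩ : ∃ s : F, s + C.σ s = 1 := C.exists_trace_one
  have h11 := two_eq_zero C hC
  set z := s • e₁ + f₁ + rr with hz
  have h1e : herm C e₁ (rr : I3 → F) = 0 := herm_vE_inW C _
  have h1f : herm C f₁ (rr : I3 → F) = 0 := herm_vF_inW C _
  have hre : herm C (rr : I3 → F) e₁ = 0 := herm_inW_vE C _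
  have hrf : herm C (rr : I3 → F) f₁ = 0 := herm_inW_vF C _
  have hzz : herm C z z = 0 := by
    simp only [hz, he₁, hf₁, herm_add_left, herm_add_right, herm_smul_left, herm_smul_right, herm_vE_vE,
      herm_vE_vF, herm_vF_vE, herm_vF_vF, herm_rr] at h1e h1f hre hrf ⊢
    rw [h1e, h1f, hre, hrf]
    linear_combination hs + h11
  have hzE : herm C z e₁ = 1 := by
    simp [hz, herm_add_left, herm_smul_left, he₁, hf₁, herm_vE_vE, herm_vF_vE]
    exact herm_inW_vE C _
  have hz0 : z ≠ 0 := fun e => zero_ne_one (α := F) (by rw [← hzE, e, herm_zero_left])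
  have he1 : herm C e₁ e₁ = 0 := herm_vE_vE C
  have he10 : e₁ ≠ 0 := Forms4.vE_ne_zero C
  have hf1 : herm C f₁ f₁ = 0 := herm_vF_vF C
  have hf10 : f₁ ≠ 0 := fun e => zero_ne_one (α := F) (by
    rw [← herm_vE_vF C (κ := Fin 1), ← hf₁, e, herm_zero_right])
  obtain ⟨se, hse⟩ := hhit e₁ he1 he10
  obtain ⟨sf, hsf⟩ := hhit f₁ hf1 hf10
  obtain ⟨sz, hsz⟩ := hhit z hzz hz0
  -- translate the three to `inW`
  set w₁ : I3 → F := C.σ se • f₁ + C.σ sf • e₁ + C.σ (sz - s * se - sf) • rr with hw₁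
  have hwe1 : herm C e₁ w₁ = se := by
    simp [hw₁, herm_add_right, herm_smul_right, C.invol, he₁, hf₁, herm_vE_vE, herm_vE_vF]
    exact Or.inr (herm_vE_inW C _)
  have hwf1 : herm C f₁ w₁ = sf := by
    simp [hw₁, herm_add_right, herm_smul_right, C.invol, he₁, hf₁, herm_vF_vE, herm_vF_vF]
    exact Or.inr (herm_vF_inW C _)
  have hwz : herm C z w₁ = sz := by
    rw [hz, herm_add_left, herm_add_left, herm_smul_left, hwe1, hwf1]
    simp only [hw₁, herm_add_right, herm_smul_right, hrf, hre, herm_rr, C.invol]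
    ring
  have hc : -(herm C w₁ w₁ * tA C) + C.σ (-(herm C w₁ w₁ * tA C)) + herm C w₁ w₁ = 0 := by
    rw [map_neg, map_mul, herm_self_fixed]
    linear_combination (-herm C w₁ w₁) * tA_spec C
  set g := uniEl C w₁ _ hc with hg
  let K2 := K1.twist C g
  have hgE : app C g E = E := app_uniEl_vE C _ _ hc
  have hK2a : K2.Φ E = a := by show K1.Φ (app C g E) = a; rw [hgE, hK1a]
  have hgw : ∀ w, app C g (inW w) = herm C w w₁ • E + inW w := fun w => by
    rw [hg, app_uniEl, herm_inW_vE, herm_inW, zero_smul, add_zero, sub_eq_add_neg, ← neg_smul,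
      neg_eq C hC, add_comm]
  have hgood : ∀ w (s' : F), K1.Φ (s' • E + inW w) ∈ N → herm C w w₁ = s' → K2.Φ (inW w) ∈ N := by
    intro w s' hm he
    show K1.Φ (app C g (inW w)) ∈ N
    rwa [hgw, he]
  set S := N ∩ (fun w => K2.Φ (inW w)) '' {w : I3 → F | herm C w w = 0 ∧ w ≠ 0} with hS
  have hzero : ∀ w : I3 → F, w ≠ 0 → inW w ≠ 0 := fun w hw => inW_ne_zero hw
  have hScl : ∀ p ∈ S, ∀ q ∈ S, p * q * p ∈ S := by
    rintro p ⟨hpN, w, ⟨hw, hw0⟩, rfl⟩ q ⟨hqN, w', ⟨hw', hw0'⟩, rfl⟩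
    refine ⟨hcl _ hpN _ hqN, w' + herm C w' w • w, ⟨?_, ?_⟩, ?_⟩
    · rw [← app_tv C hC hw, herm_app, hw']
    · rw [← app_tv C hC hw]; exact app_ne_zero C _ hw0'
    · show K2.Φ (inW (w' + herm C w' w • w)) = K2.Φ (inW w) * K2.Φ (inW w') * K2.Φ (inW w)
      rw [K2.third _ _ (by rw [herm_inW, hw]) (hzero _ hw0) (by rw [herm_inW, hw']) (hzero _ hw0'),
        herm_inW, inW_add, inW_smul]
  have hS5 : 5 ≤ S.ncard := by
    have m1 : K2.Φ (inW e₁) ∈ S := ⟨hgood e₁ se hse hwe1, e₁, ⟨he1, he10⟩, rfl⟩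
    have m2 : K2.Φ (inW f₁) ∈ S := ⟨hgood f₁ sf hsf hwf1, f₁, ⟨hf1, hf10⟩, rfl⟩
    have m4 : K2.Φ (inW z) ∈ S := ⟨hgood z sz hsz hwz, z, ⟨hzz, hz0⟩, rfl⟩
    have hfe : herm C f₁ e₁ = 1 := herm_vF_vE C
    have m3 : K2.Φ (inW (f₁ + e₁)) ∈ S := by
      have := hScl _ m1 _ m2
      rwa [K2.third _ _ (by rw [herm_inW, he1]) (hzero _ he10) (by rw [herm_inW, hf1]) (hzero _ hf10),
        herm_inW, hfe, one_smul, ← inW_add] at this
    have m5 : K2.Φ (inW (z + e₁)) ∈ S := by
      have := hScl _ m1 _ m4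
      rwa [K2.third _ _ (by rw [herm_inW, he1]) (hzero _ he10) (by rw [herm_inW, hzz]) (hzero _ hz0),
        herm_inW, hzE, one_smul, ← inW_add] at this
    let W : Fin 5 → (I3 → F) := ![e₁, f₁, f₁ + e₁, z, z + e₁]
    have hW : ∀ i, herm C (W i) (W i) = 0 ∧ W i ≠ 0 ∧ K2.Φ (inW (W i)) ∈ S := by
      have h3 : herm C (f₁ + e₁) (f₁ + e₁) = 0 ∧ f₁ + e₁ ≠ 0 := by
        have := app_tv C hC he1 f₁
        rw [hfe, one_smul] at this
        exact ⟨by rw [← this, herm_app, hf1], by rw [← this]; exact app_ne_zero C _ hf10⟩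
      have h5' : herm C (z + e₁) (z + e₁) = 0 ∧ z + e₁ ≠ 0 := by
        have := app_tv C hC he1 z
        rw [hzE, one_smul] at this
        exact ⟨by rw [← this, herm_app, hzz], by rw [← this]; exact app_ne_zero C _ hz0⟩
      intro i
      fin_cases i
      exacts [⟨he1, he10, m1⟩, ⟨hf1, hf10, m2⟩, ⟨h3.1, h3.2, m3⟩, ⟨hzz, hz0, m4⟩, ⟨h5'.1, h5'.2, m5⟩]
    let c : (I3 → F) → F × F × F := fun w => (herm C w f₁, herm C w e₁, herm C w rr)
    have hc5 : ∀ i, c (W i) = ![((1 : F), (0 : F), (0 : F)), (0, 1, 0), (1, 1, 0), (s, 1, 1), (s + 1, 1, 1)] i := by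
      intro i
      have hef : herm C e₁ f₁ = 1 := herm_vE_vF C
      fin_cases i <;>
        simp [c, W, hz, herm_add_left, herm_smul_left, he1, hf1, hfe, hef, h1e, h1f, hre, hrf, herm_rr]
    have hinj : Function.Injective fun i => K2.Φ (inW (W i)) := by
      intro i j h
      obtain ⟨b, hb, he⟩ := (K2.eq_iff _ _ (by rw [herm_inW]; exact (hW i).1) (hzero _ (hW i).2.1)
        (by rw [herm_inW]; exact (hW j).1) (hzero _ (hW j).2.1)).1 h
      have hwj : W j = b • W i := by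
        funext k; simpa [inW] using congrFun he (Sum.inr k)
      have hcj : c (W j) = b • c (W i) := by
        rw [hwj]; simp [c, herm_smul_left, Prod.smul_def]
      rw [hc5, hc5] at hcj
      fin_cases i <;> fin_cases j <;> simp [Prod.ext_iff, hb, hb.symm] at hcj ⊢ <;>
        (obtain ⟨h1, rfl⟩ := hcj; simp at h1)
    calc 5 = (Set.range fun i => K2.Φ (inW (W i))).ncard := by
          rw [Set.ncard_range_of_injective hinj, Nat.card_fin]
      _ ≤ S.ncard := Set.ncard_le_ncard (by rintro _ ⟨i, rfl⟩; exact (hW i).2.2)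
          (hNfin.subset Set.inter_subset_left)
  have hbraid : ∀ p ∈ N, ∀ q ∈ N, p ≠ q → p * q * p = q * p * q := fun p hp q hq hne =>
    FischerTransitivity.braid hD (hN hp).1 (hN hq).1 (hnc p hp q hq hne)
  have hSeq : S = N := closed_eq hNfin h9 hbraid
    (fun p hp => FischerTransitivity.sq_one hD (hN hp).1) hcl Set.inter_subset_left hScl hS5
  have hsub : N ⊆ (fun w => K2.Φ (inW w)) '' {w : I3 → F | herm C w w = 0 ∧ w ≠ 0} :=
    Set.inter_eq_left.1 hSeq
  have hK2 : ∀ v, (K.twist C (t⁻¹ * g)).Φ v = K2.Φ v := fun v => congrArg K.Φ (app_mul C t⁻¹ g v)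
  refine ⟨t⁻¹ * g, (hK2 E).trans hK2a, ?_⟩
  simp only [hK2]
  refine hsub.antisymm ?_
  rintro _ ⟨w, ⟨hw, hw0⟩, rfl⟩
  obtain ⟨s', hs'⟩ := hhit w hw hw0
  obtain ⟨w', ⟨hw', hw0'⟩, he⟩ := hsub hs'
  obtain ⟨b, hb, hbe⟩ := (K1.eq_iff _ _ (by rw [herm_app, herm_inW, hw']) (app_ne_zero C g (hzero _ hw0'))
    (hiso s' w hw hw0).1 (hiso s' w hw hw0).2).1 he
  have hww : w = b • w' := by
    funext k
    rw [hgw] at hbe
    simpa [inW, vE, hE] using congrFun hbe (Sum.inr k)
  show K2.Φ (inW w) ∈ N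
  rw [hww, inW_smul, ← (K2.eq_iff (inW w') (b • inW w') (by rw [herm_inW, hw']) (hzero _ hw0')
    (by rw [herm_smul_left, herm_smul_right, herm_inW, hw', mul_zero, mul_zero])
    (smul_ne_zero hb (hzero _ hw0'))).2 ⟨b, hb, rfl⟩]
  have : K2.Φ (inW w') = K1.Φ (s' • E + inW w) := he
  rw [this]
  exact hs'

end CfsgLib.FischerThm.Uni
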